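import Groth.Agent.EtFppfLib.Vanish
import Groth.Agent.EtSplitLib.Exact
import Groth.Agent.BigEtLib.Compare

/-!
# Direct images along finite morphisms and pullback to the big sites
-/

set_option autoImplicit false
set_option linter.style.haveILetI false
set_option linter.unusedSectionVars false
set_option backward.isDefEq.respectTransparency false
set_option backward.isDefEq.respectTransparency.types false
universe u v

open CategoryTheory CategoryTheory.Limits AlgebraicGeometry Opposite WeightLib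

namespace EtDescentLib

/-- A morphism to a presheaf with separated germs which is bijective at geometric points is bijective. -/
theorem bijective_of_bijective_geo {S : Scheme.{u}} {P Q : (Over S)ᵒᵖ ⥤ Type v} (φ : P ⟶ Q) (hP : HasGerms P)
    (hQ : Presieve.IsSheaf (QuotSh.J Scheme.etalePrecoverage S) Q)
    (hQe : ∀ {T G : Over S} (a : G ⟶ T), IsGeo G.left → ∀ s t : Q.obj (op T), Q.map a.op s = Q.map a.op t →
      ∃ (W : Over S) (h : W ⟶ T) (_ : Etale h.left) (b : G ⟶ W), b ≫ h = a ∧ Q.map h.op s = Q.map h.op t)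
    (hφ : ∀ G : Over S, IsGeo G.left → Function.Bijective (φ.app (op G))) (W : Over S) :
    Function.Bijective (φ.app (op W)) := by
  refine ⟨fun s s' h => hP.ext fun G a hG => (hφ G hG).1 ?_, fun q => ?_⟩
  · rw [NatTrans.naturality_apply, NatTrans.naturality_apply, h]
  have key : ∀ z : W.left, ∃ (U : Over S) (u : U ⟶ W) (_ : Etale u.left) (σ : P.obj (op U)),
      z ∈ Set.range u.left.base ∧ φ.app (op U) σ = Q.map u.op q := by
    intro z
    obtain ⟨G, a, hG, ha⟩ := exists_geo_at W z
    obtain ⟨x, hx⟩ := (hφ G hG).2 (Q.map a.op q)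
    obtain ⟨U, u, hu, b, t, hb, ht⟩ := hP.exists_germ a hG x
    haveI := hu
    obtain ⟨U₂, u₂, hu₂, b₂, hb₂, he⟩ := hQe b hG (φ.app (op U) t) (Q.map u.op q) (by
      rw [← NatTrans.naturality_apply, ht, hx, ← map_comp_apply', hb])
    haveI := hu₂
    obtain ⟨y⟩ := hG.nonempty
    refine ⟨U₂, u₂ ≫ u, by rw [Over.comp_left]; infer_instance, P.map u₂.op t, ⟨b₂.left y, ?_⟩, ?_⟩
    · show (b₂ ≫ u₂ ≫ u).left y = z
      rw [← Category.assoc, hb₂, hb]
      exact ha y
    · rw [NatTrans.naturality_apply, he, map_comp_apply']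
  choose U u hu σ hz hσ using key
  obtain ⟨s, hs⟩ := hP.exists_glue U u hu (fun z => ⟨z, hz z⟩) σ fun z z' G a b hG hab => (hφ G hG).1 (by
    rw [NatTrans.naturality_apply, NatTrans.naturality_apply, hσ, hσ, ← map_comp_apply', ← map_comp_apply', hab])
  refine ⟨s, ((Presieve.isSheafFor_iff_generate _).2 (hQ _ (ofArrows_mem U u hu fun z => ⟨z, hz z⟩))).isSeparatedFor.ext ?_⟩
  rintro _ _ ⟨z⟩
  rw [← NatTrans.naturality_apply, hs, hσ]

end EtDescentLib

namespace EtFppfLib

open EtDescentLib

variable {T S : Scheme.{u}} (f : T ⟶ S) [IsFinite f]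

/-- Pullbacks of sections along finite morphisms: equality at the fibre spreads out. -/
theorem exists_eq_pullback {P : (Over T)ᵒᵖ ⥤ Type (u + 1)} (hP : HasGerms P) {W G : Over S} (a : G ⟶ W)
    (hG : IsGeo G.left) (s t : P.obj (op ((Over.pullback f).obj W)))
    (h : P.map ((Over.pullback f).map a).op s = P.map ((Over.pullback f).map a).op t) :
    ∃ (W₁ : Over S) (h₁ : W₁ ⟶ W) (_ : Etale h₁.left) (b : G ⟶ W₁), b ≫ h₁ = a ∧
      P.map ((Over.pullback f).map h₁).op s = P.map ((Over.pullback f).map h₁).op t := by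
  obtain ⟨Ω, _, _, ⟨e⟩⟩ := id hG
  obtain ⟨y₀⟩ := hG.nonempty
  let M := (Over.pullback f).obj W
  let q : M.left ⟶ W.left := pullback.fst W.hom f
  haveI : IsFinite q := MorphismProperty.pullback_fst (P := @IsFinite) _ _ ‹_›
  obtain ⟨O, hO, hOL⟩ := EtSplitLib.exists_nhd_cover q
    (fun _ : PUnit.{1} => (⟨eqLocus M s t, isOpen_eqLocus _ _ _⟩ : M.left.Opens)) (a.left y₀) fun m hm => ⟨⟨⟩, by
      obtain ⟨⟨c, hc⟩, hcm⟩ := exists_gpt q m (Ω := Ω) (e.inv ≫ a.left) (by
        rw [hm]
        exact congrArg a.left.base (hG.subsingleton y₀ (e.inv (IsLocalRing.closedPoint Ω))))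
      let c' : Over.mk (c ≫ M.hom) ⟶ M := Over.homMk c rfl
      let d : Over.mk (c ≫ M.hom) ⟶ (Over.pullback f).obj G := Over.homMk
        (pullback.lift e.inv (c ≫ pullback.snd W.hom f) (by
          rw [Category.assoc, ← pullback.condition, ← Category.assoc c]
          exact (congrArg (e.inv ≫ ·) (Over.w a).symm).trans ((Category.assoc _ _ _).symm.trans
            (congrArg (· ≫ W.hom) hc.symm))))
        (pullback.lift_snd _ _ _)
      have hfac : d ≫ (Over.pullback f).map a = c' := by
        refine Over.OverMorphism.ext (pullback.hom_ext ?_ ?_)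
        · show (pullback.lift e.inv (c ≫ pullback.snd W.hom f) _ ≫ pullback.lift (pullback.fst G.hom f ≫ a.left)
            (pullback.snd G.hom f) _) ≫ pullback.fst W.hom f = c ≫ pullback.fst W.hom f
          rw [Category.assoc, pullback.lift_fst, pullback.lift_fst_assoc]
          exact hc.symm
        · show (pullback.lift e.inv (c ≫ pullback.snd W.hom f) _ ≫ pullback.lift (pullback.fst G.hom f ≫ a.left)
            (pullback.snd G.hom f) _) ≫ pullback.snd W.hom f = c ≫ pullback.snd W.hom f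
          rw [Category.assoc, pullback.lift_snd, pullback.lift_snd]
      rw [← hcm]
      exact hP.mem_eqLocus c' ⟨Ω, inferInstance, inferInstance, ⟨Iso.refl _⟩⟩
        (by rw [← hfac, map_comp_apply', map_comp_apply', h]) (IsLocalRing.closedPoint Ω)⟩
  let W₁ : Over S := Over.mk (O.ι ≫ W.hom)
  let h₁ : W₁ ⟶ W := Over.homMk O.ι rfl
  haveI : Etale h₁.left := inferInstanceAs (Etale O.ι)
  obtain ⟨b, hb, -⟩ := exists_lift h₁ a hG ⟨a.left y₀, hO⟩ fun y => congrArg a.left (hG.subsingleton y y₀)
  refine ⟨W₁, h₁, inferInstance, b, hb, hP.ext fun H c hH => ?_⟩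
  obtain ⟨y⟩ := hH.nonempty
  rw [← map_comp_apply', ← map_comp_apply']
  have hmem : (c ≫ (Over.pullback f).map h₁).left y ∈ eqLocus M s t := by
    have h2 : q ((c ≫ (Over.pullback f).map h₁).left y) ∈ O := by
      have e1 : (c ≫ (Over.pullback f).map h₁).left ≫ q = (c.left ≫ pullback.fst W₁.hom f) ≫ O.ι := by
        show (c.left ≫ pullback.lift (pullback.fst W₁.hom f ≫ O.ι) (pullback.snd W₁.hom f) _) ≫ pullback.fst W.hom f = _
        rw [Category.assoc, pullback.lift_fst, Category.assoc]
      rw [← Scheme.Hom.comp_apply, e1]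
      exact ((c.left ≫ pullback.fst W₁.hom f) y).2
    have h3 := hOL h2
    rwa [iSup_const] at h3
  exact eq_of_mem_eqLocus hmem _ hH fun y' => by rw [hH.subsingleton y' y]

variable (F : EtCoh.Ab T)

/-- The comparison on the small étale site. -/
noncomputable def bcPsi : (EtCoh.push f).obj F ⟶ (BigSite.resEt Scheme.etalePrecoverage S).obj
    ((BigSite.pushBig Scheme.etalePrecoverage f AddCommGrpCat.{u + 1}).obj
      ((BigSite.piEtPull Scheme.etalePrecoverage T).obj F)) :=
  ⟨{ app := fun U => ((BigSite.piEtAdj Scheme.etalePrecoverage T).unit.app F).hom.app (op ((EtCoh.bc f).obj U.unop))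
     naturality := fun U V g =>
      ((BigSite.piEtAdj Scheme.etalePrecoverage T).unit.app F).hom.naturality ((EtCoh.bc f).map g.unop).op }⟩

/-- The comparison map. -/
noncomputable def bcPhi : (BigSite.piEtPull Scheme.etalePrecoverage S).obj ((EtCoh.push f).obj F) ⟶
    (BigSite.pushBig Scheme.etalePrecoverage f AddCommGrpCat.{u + 1}).obj
      ((BigSite.piEtPull Scheme.etalePrecoverage T).obj F) :=
  ((BigSite.piEtAdj Scheme.etalePrecoverage S).homEquiv _ _).symm (bcPsi f F)

theorem bcPhi_unit (U : S.Etale) (t : ((EtCoh.push f).obj F).obj.obj (op U)) :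
    (bcPhi f F).hom.app (op ((EtFppf.a S).obj U))
        (((BigSite.piEtAdj Scheme.etalePrecoverage S).unit.app ((EtCoh.push f).obj F)).hom.app (op U) t) =
      ((BigSite.piEtAdj Scheme.etalePrecoverage T).unit.app F).hom.app (op ((EtCoh.bc f).obj U)) t := by
  have h := ((BigSite.piEtAdj Scheme.etalePrecoverage S).homEquiv _ _).apply_symm_apply (bcPsi f F)
  rw [Adjunction.homEquiv_unit] at h
  exact ConcreteCategory.congr_hom (congrArg (fun k => k.hom.app (op U)) h) t

theorem unit_bijective {X : Scheme.{u}} (H : EtCoh.Ab X) (U : X.Etale) :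
    Function.Bijective (((BigSite.piEtAdj Scheme.etalePrecoverage X).unit.app H).hom.app (op U)) := by
  haveI : IsIso (BigSite.piEtAdj Scheme.etalePrecoverage X).unit := BigEtLib.isIso_piEtAdj_unit X
  let ev : EtCoh.Ab X ⥤ AddCommGrpCat.{u + 1} := sheafToPresheaf _ _ ⋙ (evaluation _ _).obj (op U)
  exact (ConcreteCategory.isIso_iff_bijective (ev.map ((BigSite.piEtAdj Scheme.etalePrecoverage X).unit.app H))).1
    inferInstance

theorem bcPhi_bijective_geo (G : Over S) (hG : IsGeo G.left) :
    Function.Bijective ((bcPhi f F).hom.app (op G)) := by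
  let P := ((BigSite.piEtPull Scheme.etalePrecoverage T).obj F).obj ⋙ forget AddCommGrpCat.{u + 1}
  have hP : HasGerms P := hasGerms_piEtPull T F
  let PS := ((BigSite.piEtPull Scheme.etalePrecoverage S).obj ((EtCoh.push f).obj F)).obj
  have hPS : HasGerms (PS ⋙ forget AddCommGrpCat.{u + 1}) := hasGerms_piEtPull S _
  obtain ⟨y₀⟩ := hG.nonempty
  constructor
  · intro x x' hxx
    let p : G ⟶ Over.mk (𝟙 S) := Over.homMk G.hom (Category.comp_id _)
    obtain ⟨W₁, h₁, hh₁, b₁, t₁, hb₁, ht₁⟩ := hPS.exists_germ p hG x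
    obtain ⟨W₂, h₂, hh₂, b₂, t₂, hb₂, ht₂⟩ := hPS.exists_germ p hG x'
    have e₁ : h₁.left = W₁.hom := (Category.comp_id _).symm.trans (Over.w h₁)
    have e₂ : h₂.left = W₂.hom := (Category.comp_id _).symm.trans (Over.w h₂)
    haveI : Etale W₁.hom := e₁ ▸ hh₁
    haveI : Etale W₂.hom := e₂ ▸ hh₂
    let U : S.Etale := Scheme.Etale.mk (pullback.fst W₁.hom W₂.hom ≫ W₁.hom)
    let p₁ : (EtFppf.a S).obj U ⟶ W₁ := Over.homMk (pullback.fst W₁.hom W₂.hom) rfl
    let p₂ : (EtFppf.a S).obj U ⟶ W₂ := Over.homMk (pullback.snd W₁.hom W₂.hom) pullback.condition.symm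
    let b : G ⟶ (EtFppf.a S).obj U := Over.homMk (pullback.lift b₁.left b₂.left ((Over.w b₁).trans (Over.w b₂).symm))
      ((pullback.lift_fst_assoc _ _ _ _).trans (Over.w b₁))
    obtain ⟨f₁, hf₁⟩ := (unit_bijective ((EtCoh.push f).obj F) U).2 (PS.map p₁.op t₁)
    obtain ⟨f₂, hf₂⟩ := (unit_bijective ((EtCoh.push f).obj F) U).2 (PS.map p₂.op t₂)
    have hx₁ : PS.map b.op (PS.map p₁.op t₁) = x := by
      rw [← Functor.map_comp_apply, ← op_comp,
        show b ≫ p₁ = b₁ from Over.OverMorphism.ext (pullback.lift_fst _ _ _)]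
      exact ht₁
    have hx₂ : PS.map b.op (PS.map p₂.op t₂) = x' := by
      rw [← Functor.map_comp_apply, ← op_comp,
        show b ≫ p₂ = b₂ from Over.OverMorphism.ext (pullback.lift_snd _ _ _)]
      exact ht₂
    rw [← hx₁, ← hx₂, ← hf₁, ← hf₂, NatTrans.naturality_apply, NatTrans.naturality_apply, bcPhi_unit,
      bcPhi_unit] at hxx
    obtain ⟨W₄, h₄, hh₄, b₄, hb₄, he₄⟩ := exists_eq_pullback f hP b hG
      (((BigSite.piEtAdj Scheme.etalePrecoverage T).unit.app F).hom.app _ f₁)
      (((BigSite.piEtAdj Scheme.etalePrecoverage T).unit.app F).hom.app _ f₂) hxx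
    haveI := hh₄
    haveI : Etale W₄.hom := by
      rw [← Over.w h₄]
      exact MorphismProperty.comp_mem (W := @Etale) _ _ hh₄ U.prop
    let U₄ : S.Etale := Scheme.Etale.mk W₄.hom
    let g : U₄ ⟶ U := MorphismProperty.Over.homMk h₄.left (Over.w h₄) trivial
    have key : ((EtCoh.push f).obj F).obj.map g.op f₁ = ((EtCoh.push f).obj F).obj.map g.op f₂ := by
      apply (unit_bijective F ((EtCoh.bc f).obj U₄)).1
      refine (NatTrans.naturality_apply ((BigSite.piEtAdj Scheme.etalePrecoverage T).unit.app F).hom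
        ((EtCoh.bc f).map g).op f₁).trans (Eq.trans ?_ (NatTrans.naturality_apply
        ((BigSite.piEtAdj Scheme.etalePrecoverage T).unit.app F).hom ((EtCoh.bc f).map g).op f₂).symm)
      exact he₄
    rw [← hx₁, ← hx₂, ← hf₁, ← hf₂]
    let k : G ⟶ (EtFppf.a S).obj U₄ := Over.homMk b₄.left (Over.w b₄)
    have hk : k ≫ (EtFppf.a S).map g = b := Over.OverMorphism.ext (congrArg CommaMorphism.left hb₄)
    rw [← hk, op_comp, Functor.map_comp_apply, Functor.map_comp_apply]
    congr 1
    have hn := fun w => NatTrans.naturality_apply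
      ((BigSite.piEtAdj Scheme.etalePrecoverage S).unit.app ((EtCoh.push f).obj F)).hom g.op w
    exact (hn f₁).symm.trans ((congrArg _ key).trans (hn f₂))
  · intro x
    obtain ⟨Ω, _, _, ⟨e⟩⟩ := id hG
    let Z := (Over.pullback f).obj G
    let q : Z.left ⟶ G.left := pullback.fst G.hom f
    haveI : IsFinite q := MorphismProperty.pullback_fst (P := @IsFinite) _ _ ‹_›
    let ι := GPts q e.inv
    haveI : Finite ι := finite_gpts q e.inv (Scheme.Hom.finite_preimage_singleton _ _)
    let M : Over T := Over.mk (𝟙 T)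
    let c' : ∀ i : ι, Over.mk ((i.1 ≫ Z.hom) ≫ M.hom) ⟶ Z := fun i => Over.homMk i.1 (Category.comp_id _).symm
    obtain ⟨E, e', he', a₁, ha₁, hsec⟩ := exists_section hP
      (fun V => ⟨(0 : ((BigSite.piEtPull Scheme.etalePrecoverage T).obj F).obj.obj (op V))⟩) (M := M) (Wl := S) f
      (e.inv ≫ G.hom) (fun i : ι => i.1 ≫ Z.hom) (fun i => by
        show (i.1 ≫ pullback.snd G.hom f) ≫ f = e.inv ≫ G.hom
        rw [Category.assoc, ← pullback.condition, ← Category.assoc]
        exact congrArg (· ≫ G.hom) i.2)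
      (fun i j h => Subtype.ext (pullback.hom_ext (i.2.trans j.2.symm) h))
      (fun i => P.map (c' i).op x)
    haveI := he'
    let U : S.Etale := Scheme.Etale.mk e'
    let M₁ : Over T := (EtFppf.a T).obj ((EtCoh.bc f).obj U)
    obtain ⟨y, hy⟩ := hsec M₁ (Over.homMk M₁.hom (Category.comp_id _)) (pullback.fst e' f) pullback.condition.symm
    obtain ⟨t, ht⟩ := (unit_bijective F ((EtCoh.bc f).obj U)).2 y
    let a : G ⟶ (EtFppf.a S).obj U := Over.homMk (e.hom ≫ a₁) (by
      show (e.hom ≫ a₁) ≫ e' = G.hom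
      rw [Category.assoc, ha₁, e.hom_inv_id_assoc])
    refine ⟨PS.map a.op (((BigSite.piEtAdj Scheme.etalePrecoverage S).unit.app ((EtCoh.push f).obj F)).hom.app
      (op U) t), ?_⟩
    rw [NatTrans.naturality_apply, bcPhi_unit, ht]
    show P.map ((Over.pullback f).map a).op y = x
    have hall : ∀ m : Z.left, m ∈ eqLocus Z (P.map ((Over.pullback f).map a).op y) x := by
      intro m
      obtain ⟨i, him⟩ := exists_gpt q m (Ω := Ω) e.inv (hG.subsingleton _ _)
      rw [← him]
      refine hP.mem_eqLocus (c' i) ⟨Ω, inferInstance, inferInstance, ⟨Iso.refl _⟩⟩ ?_ (IsLocalRing.closedPoint Ω)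
      rw [← map_comp_apply']
      refine hy i (c' i ≫ (Over.pullback f).map a) ?_ ?_
      · show (i.1 ≫ pullback.lift (pullback.fst G.hom f ≫ e.hom ≫ a₁) (pullback.snd G.hom f) _) ≫
          pullback.fst e' f = a₁
        rw [Category.assoc, pullback.lift_fst, ← Category.assoc i.1]
        exact (congrArg (· ≫ e.hom ≫ a₁) i.2).trans (e.inv_hom_id_assoc _)
      · show (i.1 ≫ pullback.lift (pullback.fst G.hom f ≫ e.hom ≫ a₁) (pullback.snd G.hom f) _) ≫
          pullback.snd e' f = i.1 ≫ pullback.snd G.hom f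
        rw [Category.assoc, pullback.lift_snd]
    refine hP.ext fun H c hH => ?_
    obtain ⟨y'⟩ := hH.nonempty
    exact eq_of_mem_eqLocus (hall (c.left y')) c hH fun y'' => by rw [hH.subsingleton y'' y']

/-- The comparison is an isomorphism for finite morphisms. -/
theorem isIso_bcPhi : IsIso (bcPhi f F) := by
  let PS := ((BigSite.piEtPull Scheme.etalePrecoverage S).obj ((EtCoh.push f).obj F)).obj
  let Q := ((BigSite.pushBig Scheme.etalePrecoverage f AddCommGrpCat.{u + 1}).obj
    ((BigSite.piEtPull Scheme.etalePrecoverage T).obj F))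
  have hQ : Presieve.IsSheaf (QuotSh.J Scheme.etalePrecoverage S) (Q.obj ⋙ forget AddCommGrpCat.{u + 1}) :=
    (isSheaf_iff_isSheaf_of_type _ _).1
      ((Presheaf.isSheaf_iff_isSheaf_forget _ _ (forget AddCommGrpCat.{u + 1})).1 Q.property)
  haveI : ∀ W, IsIso ((bcPhi f F).hom.app W) := fun W => by
    rw [ConcreteCategory.isIso_iff_bijective]
    exact bijective_of_bijective_geo (P := PS ⋙ forget AddCommGrpCat.{u + 1})
      (Q := Q.obj ⋙ forget AddCommGrpCat.{u + 1}) (Functor.whiskerRight (bcPhi f F).hom _) (hasGerms_piEtPull S _) hQ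
      (fun a hG s t h => exists_eq_pullback f (hasGerms_piEtPull T F) a hG s t h)
      (bcPhi_bijective_geo f F) W.unop
  haveI : IsIso (bcPhi f F).hom := NatIso.isIso_of_isIso_app _
  haveI : IsIso ((sheafToPresheaf _ _).map (bcPhi f F)) := ‹IsIso (bcPhi f F).hom›
  exact isIso_of_reflects_iso _ (sheafToPresheaf _ _)

theorem preservesFiniteLimits_pushBig (K : Precoverage Scheme.{u}) :
    PreservesFiniteLimits (BigSite.pushBig K f AddCommGrpCat.{u + 1}) := by
  haveI : PreservesLimitsOfSize.{0, 0} (BigSite.pushBig K f AddCommGrpCat.{u + 1}) :=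
    (BigSite.bigAdj K f _).rightAdjoint_preservesLimits
  exact PreservesLimitsOfSize.preservesFiniteLimits _

/-- Direct images along finite morphisms preserve surjections which hold étale locally. -/
theorem epi_pushBig_map {K : Precoverage Scheme.{u}} (hK : Scheme.etalePrecoverage ≤ K) {A B : BigSite.Ab K T}
    (g : A ⟶ B) (hloc : ∀ (M : Over T) (s : B.obj.obj (op M)) (p : M.left),
      ∃ (U : Over T) (u : U ⟶ M) (_ : Etale u.left) (t : A.obj.obj (op U)),
        p ∈ Set.range u.left.base ∧ g.hom.app (op U) t = B.obj.map u.op s) :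
    Epi ((BigSite.pushBig K f AddCommGrpCat.{u + 1}).map g) := by
  refine (Sheaf.isLocallySurjective_iff_epi' (J := QuotSh.J K S) (A := AddCommGrpCat.{u + 1}) _).1 ⟨fun {W} s => ?_⟩
  let M := (Over.pullback f).obj W
  let q : M.left ⟶ W.left := pullback.fst W.hom f
  haveI : IsFinite q := MorphismProperty.pullback_fst (P := @IsFinite) _ _ ‹_›
  choose E e he hz hlift using fun z => exists_lift_finite (BigSite.J_mono hK T) g q s (hloc M s) z
  refine GrothendieckTopology.superset_covering _ ?_ (BigSite.J_mono hK S _ (EtDescentLib.ofArrows_mem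
    (fun z => Over.mk (e z ≫ W.hom)) (fun z => (Over.homMk (e z) rfl : Over.mk (e z ≫ W.hom) ⟶ W)) he
    fun z => ⟨z, hz z⟩))
  rw [Sieve.generate_le_iff]
  rintro _ _ ⟨z⟩
  let h : Over.mk (e z ≫ W.hom) ⟶ W := Over.homMk (e z) rfl
  exact hlift z _ ((Over.pullback f).map h) (pullback.fst (e z ≫ W.hom) f) (by
    show pullback.lift (pullback.fst (e z ≫ W.hom) f ≫ e z) (pullback.snd (e z ≫ W.hom) f) _ ≫ pullback.fst W.hom f = _
    rw [pullback.lift_fst])

theorem isZero_RpushBig_fppf [EtFppf.ACont T] (q : ℕ) (hq : 0 < q) :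
    IsZero ((EtFppf.RpushBig f q).obj ((EtFppf.aPull T).obj F)) := by
  haveI := preservesFiniteLimits_pushBig f Scheme.fppfPrecoverage
  obtain ⟨n, rfl⟩ : ∃ n, q = n + 1 := ⟨q - 1, by omega⟩
  exact isZero_rightDerived_of_acy (EtFppf.pushBig f) (fun X hX hA => epi_pushBig_map f
    BigSite.etalePrecoverage_le_fppfPrecoverage X.g fun M s p => by
      obtain ⟨U, u, hu, t, hp, ht⟩ := exists_lift_etale hX hA M s p
      exact ⟨U, u, hu, t, hp, ht⟩) n _ (acy_aPull T F)

theorem isZero_RpushBig_etale (G : BigSite.Ab Scheme.etalePrecoverage T) (q : ℕ) (hq : 0 < q) :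
    IsZero ((BigSite.RpushBig Scheme.etalePrecoverage f q).obj G) := by
  haveI := preservesFiniteLimits_pushBig f Scheme.etalePrecoverage
  haveI : (BigSite.pushBig Scheme.etalePrecoverage f AddCommGrpCat.{u + 1}).PreservesEpimorphisms := ⟨fun g hg =>
    epi_pushBig_map f le_rfl g fun M s p => by
      haveI := hg
      haveI : Sheaf.IsLocallySurjective g :=
        (Sheaf.isLocallySurjective_iff_epi' (J := QuotSh.J Scheme.etalePrecoverage T) (A := AddCommGrpCat.{u + 1}) _).2
          inferInstance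
      obtain ⟨U, u, hu, w, hw, t, ht⟩ := EtDescentLib.exists_etale_of_mem
        (Presheaf.imageSieve_mem (QuotSh.J Scheme.etalePrecoverage T) g.hom (U := op M) s) p
      exact ⟨U, u, hu, t, ⟨w, hw⟩, ht⟩⟩
  haveI : (BigSite.pushBig Scheme.etalePrecoverage f AddCommGrpCat.{u + 1}).PreservesHomology :=
    Functor.preservesHomology_of_preservesEpis_and_kernels _
  obtain ⟨n, rfl⟩ : ∃ n, q = n + 1 := ⟨q - 1, by omega⟩
  let R : InjectiveResolution G := injectiveResolution G
  refine IsZero.of_iso ?_ (R.isoRightDerivedObj (BigSite.pushBig Scheme.etalePrecoverage f _) (n + 1))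
  exact (ShortComplex.exact_iff_isZero_homology _).1 ((R.cocomplex_exactAt_succ n).map (BigSite.pushBig Scheme.etalePrecoverage f AddCommGrpCat.{u + 1}))

theorem isZero_Rpush_small (q : ℕ) (hq : 0 < q) : IsZero ((EtCoh.Rpush f q).obj F) :=
  EtSplitLib.isZero_Rpush (EtSplitLib.propB_of_integral f) F q hq

/-- Finite direct images commute with the pullback to the big étale site. -/
theorem nonempty_piEtPull_Rpush (q : ℕ) :
    Nonempty ((BigSite.piEtPull Scheme.etalePrecoverage S).obj ((EtCoh.Rpush f q).obj F) ≅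
      (BigSite.RpushBig Scheme.etalePrecoverage f q).obj ((BigSite.piEtPull Scheme.etalePrecoverage T).obj F)) := by
  haveI : (BigSite.piEtPull Scheme.etalePrecoverage S).Additive :=
    (BigSite.piEtAdj Scheme.etalePrecoverage S).left_adjoint_additive
  rcases q.eq_zero_or_pos with rfl | hq
  · haveI := preservesFiniteLimits_pushBig f Scheme.etalePrecoverage
    haveI : (EtCoh.push f).IsRightAdjoint := (EtCoh.pullPushAdj f).isRightAdjoint
    haveI : PreservesFiniteLimits (EtCoh.push f) := inferInstance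
    haveI := isIso_bcPhi f F
    exact ⟨(BigSite.piEtPull Scheme.etalePrecoverage S).mapIso ((EtCoh.push f).rightDerivedZeroIsoSelf.app F) ≪≫
      asIso (bcPhi f F) ≪≫ ((BigSite.pushBig Scheme.etalePrecoverage f _).rightDerivedZeroIsoSelf.app _).symm⟩
  · exact ⟨(((BigSite.piEtPull Scheme.etalePrecoverage S)).map_isZero (isZero_Rpush_small f F q hq)).iso
      (isZero_RpushBig_etale f _ q hq)⟩

/-- Finite direct images commute with the pullback to the big fppf site. -/
theorem nonempty_aPull_Rpush [EtFppf.ACont T] [EtFppf.ACont S] (q : ℕ) :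
    Nonempty ((EtFppf.aPull S).obj ((EtCoh.Rpush f q).obj F) ≅
      (EtFppf.RpushBig f q).obj ((EtFppf.aPull T).obj F)) := by
  haveI : (EtFppf.aPull S).Additive := (EtFppf.aAdj S).left_adjoint_additive
  rcases q.eq_zero_or_pos with rfl | hq
  · haveI : PreservesFiniteLimits (EtFppf.pushBig f) := preservesFiniteLimits_pushBig f Scheme.fppfPrecoverage
    haveI : (EtCoh.push f).IsRightAdjoint := (EtCoh.pullPushAdj f).isRightAdjoint
    haveI : PreservesFiniteLimits (EtCoh.push f) := inferInstance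
    haveI := isIso_bcPhi f F
    let e₀ := asIso (bcPhi f F)
    let i : (EtDescentLib.piFppf S).obj ((EtCoh.push f).obj F) ≅ (EtFppf.pushBig f).obj ((EtDescentLib.piFppf T).obj F) :=
      (fullyFaithfulSheafToPresheaf _ _).preimageIso ((sheafToPresheaf (QuotSh.J Scheme.etalePrecoverage S) _).mapIso e₀)
    exact ⟨(EtFppf.aPull S).mapIso ((EtCoh.push f).rightDerivedZeroIsoSelf.app F) ≪≫
      (EtDescentLib.aPullIso S).app _ ≪≫ i ≪≫
      (EtFppf.pushBig f).mapIso ((EtDescentLib.aPullIso T).app F).symm ≪≫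
      ((EtFppf.pushBig f).rightDerivedZeroIsoSelf.app _).symm⟩
  · exact ⟨((EtFppf.aPull S).map_isZero (isZero_Rpush_small f F q hq)).iso (isZero_RpushBig_fppf f F q hq)⟩

end EtFppfLib
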