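import Groth.Agent.EtFppfLib.Vanish
import Groth.Agent.BigEtLib.Compare

/-!
# Cohomology of the big fppf site and of the small étale site
-/

set_option autoImplicit false
set_option linter.style.haveILetI false
set_option linter.unusedSectionVars false
set_option backward.isDefEq.respectTransparency false
set_option backward.isDefEq.respectTransparency.types false
universe w v v' u

open CategoryTheory CategoryTheory.Limits AlgebraicGeometry Opposite CategoryTheory.Abelian

namespace EtFppfLib

/-- The image of an injective resolution of an acyclic object. -/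
noncomputable def mapResAcyclic {A : Type v} [Category.{w} A] [Abelian A] [HasInjectiveResolutions A]
    {B : Type v'} [Category.{w} B] [Abelian B] (R : A ⥤ B) [R.Additive] [PreservesFiniteLimits R]
    [R.PreservesInjectiveObjects] {G : A} (I : InjectiveResolution G)
    (h : ∀ q, IsZero ((R.rightDerived (q + 1)).obj G)) : InjectiveResolution (R.obj G) where
  cocomplex := (R.mapHomologicalComplex _).obj I.cocomplex
  injective n := R.injective_obj_of_injective (I.injective n)
  ι := ((HomologicalComplex.singleMapHomologicalComplex R _ 0).app _).inv ≫ (R.mapHomologicalComplex _).map I.ι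
  quasiIso := ⟨fun n => by
    cases n with
    | zero =>
      rw [quasiIsoAt_iff' _ 0 0 1 (by simp) (by simp)]
      refine (ShortComplex.quasiIso_iff_of_zeros _ ?_ ?_ ?_).2 ⟨?_, ?_⟩
      · show ((CochainComplex.single₀ B).obj (R.obj G)).d 0 0 = 0
        simp
      · show ((CochainComplex.single₀ B).obj (R.obj G)).d 0 1 = 0
        simp
      · show ((R.mapHomologicalComplex _).obj I.cocomplex).d 0 0 = 0
        exact HomologicalComplex.shape _ _ _ (by simp)
      · refine ShortComplex.exact_of_f_is_kernel _ (IsLimit.ofIsoLimit
          (KernelFork.mapIsLimit _ I.isLimitKernelFork R) ?_)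
        refine Fork.ext (Iso.refl _) ?_
        simp [HomologicalComplex.singleMapHomologicalComplex, HomologicalComplex.singleObjXSelf,
          HomologicalComplex.singleObjXIsoOfEq]
        exact Category.id_comp _
      · simp only [HomologicalComplex.shortComplexFunctor'_map_τ₂, HomologicalComplex.comp_f,
          Functor.mapHomologicalComplex_map_f]
        haveI : Mono (R.map (I.ι.f 0)) := inferInstance
        infer_instance
    | succ n =>
      rw [quasiIsoAt_iff_exactAt']
      · exact CochainComplex.exactAt_succ_single_obj _ _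
      · rw [HomologicalComplex.exactAt_iff_isZero_homology]
        exact (h n).of_iso (I.isoRightDerivedObj R (n + 1)).symm⟩

/-- Ext groups along a left exact functor preserving injectives, for acyclic objects. -/
theorem nonempty_ext_equiv_of_acyclic {A : Type v} [Category.{w} A] [Abelian A] [HasExt.{w} A]
    [HasInjectiveResolutions A] {B : Type v'} [Category.{w} B] [Abelian B] [HasExt.{w} B] [HasInjectiveResolutions B]
    (R : A ⥤ B) [R.Additive] [PreservesFiniteLimits R] [R.PreservesInjectiveObjects] {P : A} {Q : B}
    (e : ∀ M : A, (P ⟶ M) ≃+ (Q ⟶ R.obj M))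
    (he : ∀ {M M' : A} (g : M ⟶ M') (x : P ⟶ M), e M' (x ≫ g) = e M x ≫ R.map g) (N : A)
    (h : ∀ q, IsZero ((R.rightDerived (q + 1)).obj N)) (n : ℕ) :
    Nonempty (Ext.{w} P N n ≃+ Ext.{w} Q (R.obj N) n) := by
  let I : InjectiveResolution N := injectiveResolution N
  let I' := mapResAcyclic R I h
  let K : CochainComplex AddCommGrpCat.{w} ℕ :=
    ((preadditiveCoyoneda.obj (op P)).mapHomologicalComplex _).obj I.cocomplex
  obtain ⟨i⟩ := CohLib.nonempty_homology_iso_ext_of_injective I K (X := P)
    (fun m => AddEquiv.refl _) (fun _ _ => rfl) n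
  obtain ⟨i'⟩ := CohLib.nonempty_homology_iso_ext_of_injective I' K (X := Q)
    (fun m => e (I.cocomplex.X m)) (fun m x => he (I.cocomplex.d m (m + 1)) x) n
  exact ⟨(i.symm ≪≫ i').addCommGroupIsoToAddEquiv⟩

theorem preservesInjective_aPush (X : Scheme.{u}) [EtFppf.ACont X] : (EtFppf.aPush X).PreservesInjectiveObjects := by
  haveI : RepresentablyFlat (EtFppf.a X) := EtDescentLib.flat_a
  haveI : PreservesFiniteLimits (EtFppf.aPull X) := Groth.Agent.EpsLib.sheafPullback_preservesFiniteLimits _ _ _
  exact Functor.preservesInjectiveObjects_of_adjunction_of_preservesMonomorphisms (EtFppf.aAdj X)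

/-- fppf cohomology of a pullback from the small étale site. -/
theorem nonempty_H_equiv_HF (X : Scheme.{u}) [EtFppf.ACont X] (F : EtCoh.Ab X) (q : ℕ) :
    Nonempty (EtCoh.H X F q ≃+ EtFppf.HF X ((EtFppf.aPull X).obj F) q) := by
  haveI := preservesFiniteLimits_aPush X
  haveI := preservesInjective_aPush X
  let R := EtFppf.aPush X
  let G := (EtFppf.aPull X).obj F
  let eB := fun (M : EtFppf.AbF X) => BigEtLib.homEquivTop (EtFppf.J X) (Over.mkIdTerminal (X := X)) M
  let eS := fun (M : EtCoh.Ab X) => BigEtLib.homEquivTop X.smallEtaleTopology (EtCore.topIsTerminal X) M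
  obtain ⟨e⟩ := nonempty_ext_equiv_of_acyclic R (fun M => (eB M).trans (eS (R.obj M)).symm) (fun {M M'} g x => by
    apply (eS (R.obj M')).injective
    refine ((eS _).apply_symm_apply _).trans ?_
    refine (BigEtLib.homEquivTop_comp _ _ g x).trans ?_
    refine Eq.trans ?_ (BigEtLib.homEquivTop_comp X.smallEtaleTopology (EtCore.topIsTerminal X) (R.map g)
      (((eB M).trans (eS (R.obj M)).symm) x)).symm
    exact (congrArg ((R.map g).hom.app (op (EtCoh.top X))) ((eS _).apply_symm_apply (eB M x))).symm) G
    (fun n => isZero_RaPush X F (n + 1) n.succ_pos) q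
  haveI := isIso_aAdj_unit X F
  exact ⟨((EtCoh.HF X q).mapIso (asIso ((EtFppf.aAdj X).unit.app F))).addCommGroupIsoToAddEquiv.trans e.symm⟩

end EtFppfLib
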