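import Groth.Agent.EtFppfLib.Refine
import Groth.Agent.EpsLib.Cartan
import Groth.Agent.EpsLib.NerveGen
import Groth.Agent.EtSplitLib.Conditions
import Groth.Prelude.Def_BigSite

/-!
# Cartan's criterion for finite flat coverings, étale locally on the base
-/

set_option autoImplicit false
set_option linter.style.haveILetI false
set_option linter.unusedSectionVars false
set_option backward.isDefEq.respectTransparency false
set_option backward.isDefEq.respectTransparency.types false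
universe u

open CategoryTheory CategoryTheory.Limits AlgebraicGeometry Opposite Groth.Agent.EpsLib

namespace EtFppfLib

variable {S : Scheme.{u}}

/-- An étale base change of a morphism around a point. -/
structure Ref {W' W : Over S} (π : W' ⟶ W) (z : W.left) where
  /-- The new source. -/
  T' : Over S
  /-- The new target. -/
  T : Over S
  /-- The base change. -/
  π₁ : T' ⟶ T
  /-- The map of sources. -/
  a' : T' ⟶ W'
  /-- The map of targets. -/
  a : T ⟶ W
  et : Etale a.left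
  sq : IsPullback a' π₁ π a
  mem : z ∈ Set.range a.left.base

variable {W' W : Over S} {π : W' ⟶ W} {z : W.left}

/-- The base change along an étale morphism. -/
noncomputable def Ref.of (π : W' ⟶ W) {E : Over S} (e : E ⟶ W) (he : Etale e.left) (hz : z ∈ Set.range e.left.base) :
    Ref π z :=
  ⟨pullback π e, E, pullback.snd π e, pullback.fst π e, e, he, IsPullback.of_hasPullback π e, hz⟩

theorem Ref.ffc (r : Ref π z) (h : ffc π.left) : EtFppfLib.ffc r.π₁.left :=
  EtFppfLib.ffc.of_isPullback (r.sq.map (Over.forget S)) h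

/-- Composition of base changes. -/
noncomputable def Ref.comp (r : Ref π z) {z₁ : r.T.left} (hz : r.a.left z₁ = z) (r₂ : Ref r.π₁ z₁) : Ref π z where
  T' := r₂.T'
  T := r₂.T
  π₁ := r₂.π₁
  a' := r₂.a' ≫ r.a'
  a := r₂.a ≫ r.a
  et := by haveI := r.et; haveI := r₂.et; rw [Over.comp_left]; infer_instance
  sq := r₂.sq.paste_horiz r.sq
  mem := by
    obtain ⟨y, hy⟩ := r₂.mem
    exact ⟨y, show r.a.left (r₂.a.left y) = z by rw [hy, hz]⟩

/-- The map of powers. -/
noncomputable def Ref.nm (r : Ref π z) (n : ℕ) : (nerveOf r.π₁).obj n ⟶ (nerveOf π).obj n :=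
  (nerveOf π).lift n (fun k => (nerveOf r.π₁).pr n k ≫ r.a') fun k => by
    rw [Category.assoc, Category.assoc, r.sq.w, reassoc_of% ((nerveOf r.π₁).w n k)]

theorem Ref.nm_pr (r : Ref π z) (n : ℕ) (k : Fin (n + 1)) :
    r.nm n ≫ (nerveOf π).pr n k = (nerveOf r.π₁).pr n k ≫ r.a' := (nerveOf π).fac _ _ _ k

theorem Ref.nm_face (r : Ref π z) (n : ℕ) (i : Fin (n + 2)) :
    r.nm (n + 1) ≫ (nerveOf π).face n i = (nerveOf r.π₁).face n i ≫ r.nm n :=
  (nerveOf π).ext n _ _ fun k => by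
    rw [Category.assoc, Category.assoc, Nerve.face_pr, r.nm_pr, r.nm_pr, reassoc_of% ((nerveOf r.π₁).face_pr n i k)]

theorem Ref.nm_comp (r : Ref π z) {z₁ : r.T.left} (hz : r.a.left z₁ = z) (r₂ : Ref r.π₁ z₁) (n : ℕ) :
    (r.comp hz r₂).nm n = r₂.nm n ≫ r.nm n :=
  (nerveOf π).ext n _ _ fun k => by
    rw [Ref.nm_pr, Category.assoc, r.nm_pr, reassoc_of% (r₂.nm_pr n k)]
    rfl

theorem Ref.cechD_nm (r : Ref π z) (P : (Over S)ᵒᵖ ⥤ AddCommGrpCat.{u + 1}) (n : ℕ)
    (x : P.obj (op ((nerveOf π).obj n))) :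
    P.map (r.nm (n + 1)).op (cechD (nerveOf π) P n x) = cechD (nerveOf r.π₁) P n (P.map (r.nm n).op x) := by
  simp only [cechD_apply, map_sum, map_zsmul]
  refine Finset.sum_congr rfl fun i _ => ?_
  rw [← Functor.map_comp_apply, ← Functor.map_comp_apply, ← op_comp, ← op_comp, r.nm_face]

/-- Čech exactness étale locally on the base. -/
def LocEx (π : W' ⟶ W) (P : (Over S)ᵒᵖ ⥤ AddCommGrpCat.{u + 1}) : Prop :=
  ∀ (n : ℕ) (x : P.obj (op ((nerveOf π).obj (n + 1)))), cechD (nerveOf π) P (n + 1) x = 0 → ∀ z : W.left,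
    ∃ (r : Ref π z) (y : P.obj (op ((nerveOf r.π₁).obj n))),
      cechD (nerveOf r.π₁) P n y = P.map (r.nm (n + 1)).op x

/-- Čech acyclicity for finite flat coverings, étale locally on the base. -/
def Acy (G : EtFppf.AbF S) : Prop :=
  ∀ (W' W : Over S) (π : W' ⟶ W), EtFppfLib.ffc π.left → LocEx π G.obj

theorem LocEx.of_iso {P Q : (Over S)ᵒᵖ ⥤ AddCommGrpCat.{u + 1}} (h : LocEx π P) (e : P ≅ Q) : LocEx π Q := by
  intro n x hx z
  obtain ⟨r, y, hy⟩ := h n (e.inv.app _ x) (by rw [← cechD_natural, hx, map_zero]) z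
  refine ⟨r, e.hom.app _ y, ?_⟩
  rw [← cechD_natural, hy, NatTrans.naturality_apply]
  congr 1
  exact ConcreteCategory.congr_hom (congrArg (fun k => k.app _) e.inv_hom_id) x

theorem Acy.of_iso {G H : EtFppf.AbF S} (h : Acy G) (e : G ≅ H) : Acy H := fun W' W π hπ =>
  (h W' W π hπ).of_iso ((sheafToPresheaf _ _).mapIso e)

theorem singleton_mem (π : W' ⟶ W) (h : EtFppfLib.ffc π.left) :
    Sieve.ofArrows (fun _ : PUnit.{u + 1} => W') (fun _ => π) ∈ EtFppf.J S W := by
  obtain ⟨_, _, _, _⟩ := (ffc_iff _).1 h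
  rw [GrothendieckTopology.mem_over_iff]
  refine GrothendieckTopology.superset_covering _ ?_
    (Precoverage.generate_mem_toGrothendieck (Scheme.Hom.singleton_mem_fppfPrecoverage π.left))
  rw [Sieve.generate_le_iff]
  rintro _ _ ⟨⟩
  exact (Sieve.overEquiv_iff _ _).2 ⟨W', Over.homMk (𝟙 _) ((Category.id_comp _).trans (Over.w π).symm), π,
    ⟨⟨⟩⟩, Over.OverMorphism.ext (Category.id_comp _)⟩

theorem bot_mem {J : GrothendieckTopology (Over S)} (hJ : QuotSh.J Scheme.etalePrecoverage S ≤ J) {Z : Over S}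
    [IsEmpty Z.left] : (⊥ : Sieve Z) ∈ J Z := by
  refine GrothendieckTopology.superset_covering _ ?_ (hJ _
    (EtDescentLib.ofArrows_mem (fun i : PEmpty.{u + 1} => i.elim) (fun i => i.elim) (fun i => i.elim)
      fun z => (IsEmpty.false z).elim))
  rintro _ _ ⟨_, _, _, ⟨i⟩, _⟩
  exact i.elim

theorem eq_of_isEmpty {J : GrothendieckTopology (Over S)} (hJ : QuotSh.J Scheme.etalePrecoverage S ≤ J)
    (G : Sheaf J AddCommGrpCat.{u + 1}) {Z : Over S} [IsEmpty Z.left] (a b : G.obj.obj (op Z)) : a = b :=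
  sheaf_sect_ext G ⊥ (bot_mem hJ) a b fun _ _ h => h.elim

/-- Lifts over finite schemes glue, étale locally on the base. -/
theorem exists_lift_finite {J : GrothendieckTopology (Over S)} (hJ : QuotSh.J Scheme.etalePrecoverage S ≤ J)
    {A B : Sheaf J AddCommGrpCat.{u + 1}} (g : A ⟶ B) {M : Over S} {Wl : Scheme.{u}} (q : M.left ⟶ Wl) [IsFinite q]
    (s : B.obj.obj (op M))
    (hloc : ∀ p : M.left, ∃ (U : Over S) (u : U ⟶ M) (_ : Etale u.left) (t : A.obj.obj (op U)),
      p ∈ Set.range u.left.base ∧ g.hom.app (op U) t = B.obj.map u.op s) (z : Wl) :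
    ∃ (E : Scheme.{u}) (e : E ⟶ Wl) (_ : Etale e), z ∈ Set.range e.base ∧
      ∀ (M₁ : Over S) (m : M₁ ⟶ M) (q₁ : M₁.left ⟶ E), m.left ≫ q = q₁ ≫ e →
        ∃ t, g.hom.app (op M₁) t = B.obj.map m.op s := by
  choose U u hu t hp ht using hloc
  let γ : M.left ⟶ pullback q (𝟙 Wl) := pullback.lift (𝟙 _) q (by simp)
  haveI : IsIso γ := ⟨pullback.fst _ _, pullback.lift_fst _ _ _, pullback.hom_ext (by simp [γ]) (by simp [γ, pullback.condition])⟩
  obtain ⟨κ, V', v', hv', hcov, hdec⟩ := EtSplitLib.propB_of_integral q Wl (𝟙 _) M.left (fun p => (U p).left)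
    (fun p => (u p).left ≫ γ) (fun p => by haveI := hu p; infer_instance) fun x => by
      obtain ⟨a, ha⟩ := hp (inv γ x)
      refine ⟨inv γ x, a, ?_⟩
      show γ ((u (inv γ x)).left a) = x
      rw [ha, ← Scheme.Hom.comp_apply, IsIso.inv_hom_id]
      rfl
  obtain ⟨j, hj⟩ := hcov z
  obtain ⟨μ, Wo, hd, hc, hfac⟩ := hdec j
  choose i k hk using hfac
  haveI := hv' j
  refine ⟨V' j, v' j, hv' j, hj, fun M₁ m q₁ hm => ?_⟩
  let P₁ : Over S := Over.mk (pullback.fst q (v' j ≫ 𝟙 _) ≫ M.hom)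
  let m₁ : M₁ ⟶ P₁ := Over.homMk (pullback.lift m.left q₁ (by rw [Category.comp_id]; exact hm))
    ((pullback.lift_fst_assoc _ _ _ _).trans (Over.w m))
  let pM : P₁ ⟶ M := Over.homMk (pullback.fst _ _) rfl
  have hm₁ : m₁ ≫ pM = m := Over.OverMorphism.ext (pullback.lift_fst _ _ _)
  let Z : μ → Over S := fun a => Over.mk ((Wo a).ι ≫ P₁.hom)
  let ι' : ∀ a, Z a ⟶ P₁ := fun a => Over.homMk (Wo a).ι rfl
  have hk' : ∀ a, k a ≫ (u (i a)).left = (Wo a).ι ≫ pullback.fst q (v' j ≫ 𝟙 _) := fun a => by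
    have := congrArg (· ≫ pullback.fst q (𝟙 Wl)) (hk a)
    simpa [γ] using this
  let κ' : ∀ a, Z a ⟶ U (i a) := fun a => Over.homMk (k a) (by
    rw [← Over.w (u (i a)), ← Category.assoc, hk' a, Category.assoc]; rfl)
  have hκ : ∀ a, κ' a ≫ u (i a) = ι' a ≫ pM := fun a => Over.OverMorphism.ext (hk' a)
  haveI : ∀ a, Etale (ι' a).left := fun a => inferInstanceAs (Etale (Wo a).ι)
  have hmem : Sieve.ofArrows Z ι' ∈ J P₁ :=
    hJ _ (EtDescentLib.ofArrows_mem Z ι' inferInstance fun y => by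
        obtain ⟨a, ha⟩ := TopologicalSpace.Opens.mem_iSup.1 (show y ∈ ⨆ a, Wo a by rw [hc]; trivial)
        exact ⟨a, ⟨y, ha⟩, rfl⟩)
  have hsh : (Presieve.ofArrows Z ι').IsSheafFor (A.obj ⋙ forget AddCommGrpCat.{u + 1}) := by
    rw [Presieve.isSheafFor_iff_generate]
    exact ((isSheaf_iff_isSheaf_of_type _ _).1
      ((Presheaf.isSheaf_iff_isSheaf_forget _ _ (forget AddCommGrpCat.{u + 1})).1 A.property)) _ hmem
  obtain ⟨t₁, ht₁, -⟩ := (Presieve.isSheafFor_arrows_iff _ _).1 hsh (fun a => A.obj.map (κ' a).op (t (i a)))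
    fun a b Y ga gb hab => by
      by_cases h : a = b
      · subst h
        have : ga = gb := Over.OverMorphism.ext ((cancel_mono (Wo a).ι).1 (congrArg CommaMorphism.left hab))
        rw [this]
      · haveI : IsEmpty Y.left := ⟨fun y => by
          have e1 : (Wo a).ι (ga.left y) = (Wo b).ι (gb.left y) :=
            congrArg (fun w : Y ⟶ P₁ => w.left y) hab
          exact Set.disjoint_left.1 (TopologicalSpace.Opens.coe_disjoint.2 (hd a b h)) (ga.left y).2
            (show (Wo a).ι (ga.left y) ∈ Wo b from e1 ▸ (gb.left y).2)⟩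
        exact eq_of_isEmpty hJ A _ _
  refine ⟨A.obj.map m₁.op t₁, ?_⟩
  rw [NatTrans.naturality_apply, ← hm₁, op_comp, Functor.map_comp_apply]
  congr 1
  refine sheaf_sect_ext B _ hmem _ _ fun Y w hw => ?_
  obtain ⟨a, c, rfl⟩ := (Sieve.mem_ofArrows_iff _ _ _).1 hw
  rw [op_comp, Functor.map_comp_apply, Functor.map_comp_apply]
  congr 1
  have h1 : A.obj.map (ι' a).op t₁ = A.obj.map (κ' a).op (t (i a)) := ht₁ a
  rw [← NatTrans.naturality_apply, h1, NatTrans.naturality_apply, ht, ← Functor.map_comp_apply, ← op_comp, hκ,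
    op_comp, Functor.map_comp_apply]

/-- The étale topology is coarser than the fppf topology. -/
theorem et_le_fppf : QuotSh.J Scheme.etalePrecoverage S ≤ EtFppf.J S :=
  BigSite.J_mono BigSite.etalePrecoverage_le_fppfPrecoverage S

/-- A lift on a covering with cohomologically trivial cocycle descends. -/
theorem exists_lift_of_cob {T : ShortComplex (EtFppf.AbF S)} (hT : T.ShortExact) {W' W : Over S} (π : W' ⟶ W)
    (hπ : Sieve.ofArrows (fun _ : PUnit.{u + 1} => W') (fun _ => π) ∈ EtFppf.J S W) (s : T.X₃.obj.obj (op W))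
    (t : T.X₂.obj.obj (op W')) (ht : T.g.hom.app (op W') t = T.X₃.obj.map π.op s)
    (y : T.X₁.obj.obj (op ((nerveOf π).obj 0)))
    (hy : T.f.hom.app _ (cechD (nerveOf π) T.X₁.obj 0 y) =
      cechD (nerveOf π) T.X₂.obj 0 (T.X₂.obj.map ((nerveOf π).pr 0 0).op t)) :
    ∃ r, T.g.hom.app (op W) r = s := by
  let N := nerveOf π
  let t₀ := T.X₂.obj.map (N.pr 0 0).op t
  have hgt₀ : T.g.hom.app (op (N.obj 0)) t₀ = T.X₃.obj.map (N.pr 0 0 ≫ π).op s := by
    rw [NatTrans.naturality_apply, ht, op_comp, Functor.map_comp]; rfl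
  let t₁ := t₀ - T.f.hom.app (op (N.obj 0)) y
  have ht₁ : cechD N T.X₂.obj 0 t₁ = 0 := by
    rw [map_sub, ← cechD_natural, hy, sub_self]
  have hgt₁ : T.g.hom.app (op (N.obj 0)) t₁ = T.X₃.obj.map (N.pr 0 0 ≫ π).op s := by
    rw [map_sub, hgt₀, ← ConcreteCategory.comp_apply, ← NatTrans.comp_app,
      show T.f.hom ≫ T.g.hom = 0 from congrArg (fun k => k.hom) T.zero]
    exact sub_zero _
  let l : W' ⟶ N.obj 0 := N.lift 0 (fun _ => 𝟙 W') fun _ => rfl
  have hl : l ≫ N.pr 0 0 = 𝟙 W' := N.fac _ _ _ _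
  let t₂ := T.X₂.obj.map l.op t₁
  obtain ⟨r, hr⟩ := sheaf_glue_single T.X₂ π hπ t₂ fun P a b hab => by
    let q : P ⟶ N.obj 1 := N.lift 1 ![b, a] fun k => by
      induction k using Fin.cases with
      | zero => rfl
      | succ k => obtain rfl : k = 0 := Fin.eq_zero k; exact hab
    have q0 : q ≫ N.face 0 (0 : Fin 2) = a ≫ l := N.ext 0 _ _ fun k => by
      obtain rfl : k = 0 := Fin.eq_zero k
      rw [Category.assoc, N.face_pr, N.fac, Category.assoc, hl, Category.comp_id]; rfl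
    have q1 : q ≫ N.face 0 (1 : Fin 2) = b ≫ l := N.ext 0 _ _ fun k => by
      obtain rfl : k = 0 := Fin.eq_zero k
      rw [Category.assoc, N.face_pr, N.fac, Category.assoc, hl, Category.comp_id]; rfl
    have e := congrArg (T.X₂.obj.map q.op) ht₁
    rw [cechD_apply, Fin.sum_univ_two, map_zero] at e
    simp only [Fin.val_zero, pow_zero, one_smul, Fin.val_one, pow_one, neg_smul, map_add, map_neg] at e
    rw [← ConcreteCategory.comp_apply, ← ConcreteCategory.comp_apply, ← Functor.map_comp, ← Functor.map_comp, ← op_comp,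
      ← op_comp, q0, q1, op_comp, op_comp, Functor.map_comp, Functor.map_comp] at e
    exact add_neg_eq_zero.1 e
  refine ⟨r, sheaf_sect_ext T.X₃ _ hπ _ _ fun P g hg => ?_⟩
  obtain ⟨-, a, rfl⟩ := (Sieve.mem_ofArrows_iff _ _ _).1 hg
  have e2 : T.X₃.obj.map π.op (T.g.hom.app (op W) r) = T.X₃.obj.map π.op s := by
    rw [← NatTrans.naturality_apply, hr, NatTrans.naturality_apply, hgt₁, ← ConcreteCategory.comp_apply, ← Functor.map_comp,
      ← op_comp, reassoc_of% hl]
  rw [op_comp, Functor.map_comp, ConcreteCategory.comp_apply, ConcreteCategory.comp_apply, e2]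

/-- Sections lift étale locally along epimorphisms with acyclic kernel. -/
theorem exists_lift_etale {T : ShortComplex (EtFppf.AbF S)} (hT : T.ShortExact) (hA : Acy T.X₁) (W : Over S)
    (s : T.X₃.obj.obj (op W)) (z : W.left) :
    ∃ (E : Over S) (e : E ⟶ W) (_ : Etale e.left) (t : T.X₂.obj.obj (op E)),
      z ∈ Set.range e.left.base ∧ T.g.hom.app (op E) t = T.X₃.obj.map e.op s := by
  haveI := hT.epi_g
  haveI : Sheaf.IsLocallySurjective T.g := (Sheaf.isLocallySurjective_iff_epi' (J := EtFppf.J S) (A := AddCommGrpCat.{u + 1}) _).2 inferInstance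
  obtain ⟨E, e, he, W', π, hπ, ⟨z₁, hz₁⟩, ⟨t, ht⟩⟩ :=
    exists_refine (Presheaf.imageSieve_mem (EtFppf.J S) T.g.hom (U := op W) s) z
  let N := nerveOf π
  let t₀ := T.X₂.obj.map (N.pr 0 0).op t
  have ht' : T.g.hom.app (op W') t = T.X₃.obj.map π.op (T.X₃.obj.map e.op s) := by
    rw [← Functor.map_comp_apply, ← op_comp]; exact ht
  have hg0 : T.g.hom.app (op (N.obj 1)) (cechD N T.X₂.obj 0 t₀) = 0 := by
    rw [cechD_natural, NatTrans.naturality_apply, ht', cechD_apply, Fin.sum_univ_two]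
    simp only [Fin.val_zero, pow_zero, one_smul, Fin.val_one, pow_one, neg_smul, ← Functor.map_comp_apply, ← op_comp,
      reassoc_of% (N.face_pr 0 (0 : Fin 2) 0), reassoc_of% (N.face_pr 0 (1 : Fin 2) 0),
      reassoc_of% (N.w 1 ((0 : Fin 2).succAbove 0)), reassoc_of% (N.w 1 ((1 : Fin 2).succAbove 0)), add_neg_cancel]
  obtain ⟨x, hx⟩ := (sections_exact hT (N.obj 1)).2 _ hg0
  obtain ⟨r, y, hy⟩ := hA _ _ π hπ 0 x ((sections_exact hT (N.obj 2)).1 (by
    rw [cechD_natural, hx, cechD_cechD, map_zero])) z₁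
  obtain ⟨t₁, ht₁⟩ := exists_lift_of_cob hT r.π₁ (singleton_mem _ (r.ffc hπ)) (T.X₃.obj.map (r.a ≫ e).op s)
    (T.X₂.obj.map r.a'.op t) (by
      rw [NatTrans.naturality_apply, ht', ← Functor.map_comp_apply, ← Functor.map_comp_apply,
        ← Functor.map_comp_apply, ← op_comp, ← op_comp, ← op_comp, Category.assoc,
        reassoc_of% r.sq.w]) y (by
      rw [hy, NatTrans.naturality_apply, hx, r.cechD_nm, ← Functor.map_comp_apply, ← Functor.map_comp_apply,
        ← op_comp, ← op_comp, r.nm_pr])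
  haveI := he; haveI := r.et
  refine ⟨r.T, r.a ≫ e, by rw [Over.comp_left]; infer_instance, t₁, ?_, ht₁⟩
  obtain ⟨z₂, hz₂⟩ := r.mem
  exact ⟨z₂, show e.left (r.a.left z₂) = z by rw [hz₂, hz₁]⟩

theorem isFinite_nerve_hom (π : W' ⟶ W) [IsFinite π.left] :
    ∀ n, IsFinite ((nerveOf π).pr n 0 ≫ π).left
  | 0 => by
    show IsFinite (𝟙 W' ≫ π).left
    rw [Category.id_comp]; infer_instance
  | n + 1 => by
    haveI h : IsFinite (pow π n).hom.left := by
      rw [← powPr_w π n 0]; exact isFinite_nerve_hom π n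
    haveI : IsFinite (pullback.fst π (pow π n).hom).left :=
      MorphismProperty.of_isPullback (P := @IsFinite) ((IsPullback.of_hasPullback π (pow π n).hom).map (Over.forget S)).flip h
    show IsFinite (pullback.fst π (pow π n).hom ≫ π).left
    rw [Over.comp_left]; infer_instance

/-- The quotient of an injective sheaf by an acyclic one is acyclic. -/
theorem Acy.quotient {T : ShortComplex (EtFppf.AbF S)} (hT : T.ShortExact) [Injective T.X₂] (hA : Acy T.X₁) :
    Acy T.X₃ := by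
  intro W' W π hπ n x hx z
  obtain ⟨hfin, -⟩ := (ffc_iff _).1 hπ
  haveI := isFinite_nerve_hom π (n + 1)
  obtain ⟨E', e', he', ⟨z₁, hz₁⟩, hlift⟩ := exists_lift_finite et_le_fppf T.g ((nerveOf π).pr (n + 1) 0 ≫ π).left x
    (fun p => by
      obtain ⟨U, u, hu, t, hp, ht⟩ := exists_lift_etale hT hA _ x p
      exact ⟨U, u, hu, t, hp, ht⟩) z
  let e : Over.mk (e' ≫ W.hom) ⟶ W := Over.homMk e' rfl
  let r : Ref π z := Ref.of π e he' ⟨z₁, hz₁⟩
  obtain ⟨x', hx'⟩ := hlift _ (r.nm (n + 1)) ((nerveOf r.π₁).pr (n + 1) 0 ≫ r.π₁).left (by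
    rw [← Over.comp_left, reassoc_of% (r.nm_pr (n + 1) 0), r.sq.w]; rfl)
  obtain ⟨w, hw⟩ := (sections_exact hT _).2 (cechD (nerveOf r.π₁) T.X₂.obj (n + 1) x') (by
    rw [cechD_natural, hx', ← r.cechD_nm, hx, map_zero])
  obtain ⟨r₂, v, hv⟩ := hA _ _ r.π₁ (r.ffc hπ) (n + 1) w ((sections_exact hT _).1 (by
    rw [cechD_natural, hw, cechD_cechD, map_zero])) z₁
  obtain ⟨y, hy⟩ := hExact_injective_sheaf T.X₂ (nerveOf r₂.π₁) n
    (T.X₂.obj.map (r₂.nm (n + 1)).op x' - T.f.hom.app _ v) (by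
      rw [map_sub, ← r₂.cechD_nm, ← cechD_natural, hv, NatTrans.naturality_apply, hw, sub_self])
  refine ⟨r.comp hz₁ r₂, T.g.hom.app _ y, ?_⟩
  show cechD (nerveOf r₂.π₁) T.X₃.obj n (T.g.hom.app _ y) = _
  rw [← cechD_natural, hy, map_sub, NatTrans.naturality_apply, hx',
    show T.g.hom.app _ (T.f.hom.app _ v) = 0 from
      ConcreteCategory.congr_hom (congrArg (fun k => k.hom.app _) T.zero) v, sub_zero, ← Functor.map_comp_apply,
    ← op_comp]
  exact congrArg (fun m => T.X₃.obj.map (Quiver.Hom.op m) x) (r.nm_comp (z₁ := z₁) hz₁ r₂ (n + 1)).symm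

end EtFppfLib
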