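import Groth.Agent.EtFppfLib.Cech
import Groth.Agent.EtSplitLib.Main

/-!
# Sheaves with germs are Čech acyclic for finite flat coverings
-/

set_option autoImplicit false
set_option linter.style.haveILetI false
set_option linter.unusedSectionVars false
set_option backward.isDefEq.respectTransparency false
set_option backward.isDefEq.respectTransparency.types false
universe u v

open CategoryTheory CategoryTheory.Limits AlgebraicGeometry Opposite Groth.Agent.EpsLib WeightLib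

namespace EtDescentLib

/-- Sections over disjoint étale monomorphisms glue. -/
theorem HasGerms.exists_glue_disjoint {S : Scheme.{u}} {P : (Over S)ᵒᵖ ⥤ Type v} (hP : HasGerms P) {T : Over S}
    {ι : Type u} (W : ι → Over S) (h : ∀ i, W i ⟶ T) (het : ∀ i, Etale (h i).left) (hm : ∀ i, Mono (h i).left)
    (hd : ∀ i j x y, (h i).left x = (h j).left y → i = j) (hs : ∀ z : T.left, ∃ i w, (h i).left w = z)
    (σ : ∀ i, P.obj (op (W i))) : ∃ s : P.obj (op T), ∀ i, P.map (h i).op s = σ i :=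
  hP.exists_glue W h het hs σ fun i j G a b hG hab => by
    obtain ⟨y⟩ := hG.nonempty
    obtain rfl := hd i j (a.left y) (b.left y) (congrArg (fun m : G ⟶ T => m.left y) hab)
    have := hm i
    rw [show a = b from Over.OverMorphism.ext ((cancel_mono (h i).left).1 (congrArg CommaMorphism.left hab))]

end EtDescentLib

namespace EtFppfLib

open EtDescentLib

variable {S : Scheme.{u}} {W' W : Over S} (π : W' ⟶ W)

/-- Sections over finite schemes with prescribed values at finitely many geometric points, étale locally. -/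
theorem exists_section {P : (Over S)ᵒᵖ ⥤ Type (u + 1)} (hP : HasGerms P) (h0 : ∀ T, Nonempty (P.obj (op T)))
    {M : Over S} {Wl : Scheme.{u}} (q : M.left ⟶ Wl) [IsFinite q] {Ω : Type u} [Field Ω] [IsAlgClosed Ω]
    (η : Spec (CommRingCat.of Ω) ⟶ Wl) {ι : Type u} [Finite ι]
    (p : ι → (Spec (CommRingCat.of Ω) ⟶ M.left)) (hp : ∀ i, p i ≫ q = η) (hinj : Function.Injective p)
    (val : ∀ i, P.obj (op (Over.mk (p i ≫ M.hom)))) :
    ∃ (E : Scheme.{u}) (e : E ⟶ Wl) (_ : Etale e) (a₁ : Spec (CommRingCat.of Ω) ⟶ E),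
      a₁ ≫ e = η ∧
      ∀ (M₁ : Over S) (m : M₁ ⟶ M) (q₁ : M₁.left ⟶ E), m.left ≫ q = q₁ ≫ e →
        ∃ y : P.obj (op M₁), ∀ (i : ι) (c : Over.mk (p i ≫ M.hom) ⟶ M₁), c.left ≫ q₁ = a₁ →
          c.left ≫ m.left = p i → P.map c.op y = val i := by
  have hG : ∀ i, IsGeo (Over.mk (p i ≫ M.hom)).left := fun _ => ⟨Ω, inferInstance, inferInstance, ⟨Iso.refl _⟩⟩
  have hgerm := fun i => hP.exists_germ (Over.homMk (p i) rfl : Over.mk (p i ≫ M.hom) ⟶ M) (hG i) (val i)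
  choose U h hh b t hb ht using hgerm
  haveI := hh
  let g : (∐ fun i => (U i).left) ⟶ M.left := Limits.Sigma.desc fun i => (h i).left
  haveI : Etale g := IsZariskiLocalAtSource.sigmaDesc (P := @Etale) inferInstance
  let V : Over S := Over.mk (g ≫ M.hom)
  let inc : ∀ i, U i ⟶ V := fun i => Over.homMk (Limits.Sigma.ι (fun i => (U i).left) i)
    ((Limits.Sigma.ι_desc_assoc _ _ _).trans (Over.w (h i)))
  obtain ⟨τ, hτ⟩ := hP.exists_glue_disjoint U inc (fun i => inferInstanceAs (Etale (Limits.Sigma.ι _ i)))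
    (fun i => inferInstanceAs (Mono (Limits.Sigma.ι _ i))) (fun i j x y hxy => by
      by_contra hne
      exact Set.disjoint_left.1 (TopologicalSpace.Opens.coe_disjoint.2
        (disjoint_opensRange_sigmaι (fun i => (U i).left) i j hne)) ⟨x, rfl⟩ ⟨y, hxy.symm⟩)
    (fun z => by
      obtain ⟨i, x, hx⟩ := (sigmaOpenCover fun i => (U i).left).exists_eq z
      exact ⟨i, x, hx⟩) t
  have hbp : ∀ i, (b i).left ≫ (h i).left = p i := fun i => congrArg CommaMorphism.left (hb i)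
  have hrg : ∀ i, ((b i).left ≫ Limits.Sigma.ι (fun i => (U i).left) i) ≫ g = p i := fun i => by
    rw [Category.assoc, Limits.Sigma.ι_desc, hbp]
  let r : ∀ i, GPts (g ≫ q) η := fun i => ⟨(b i).left ≫ Limits.Sigma.ι (fun i => (U i).left) i, by
    rw [← Category.assoc, hrg, hp]⟩
  obtain ⟨V', v, hv, η', R, s, pp, hcl, hd, hs, hpp⟩ := EtSplitLib.exists_split_sections q g η r fun i j e =>
    hinj ((hrg i).symm.trans (e.trans (hrg j)))
  haveI := hv
  let P₁ : Over S := Over.mk (pullback.fst q v ≫ M.hom)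
  let C : (pullback q v).Opens :=
    ⟨(⋃ i, (R i : Set ↥(pullback q v)))ᶜ, (isClosed_iUnion_of_finite hcl).isOpen_compl⟩
  let O : Option ι → (pullback q v).Opens := fun o => o.elim C R
  let Z : Option ι → Over S := fun o => Over.mk ((O o).ι ≫ P₁.hom)
  let incl : ∀ o, Z o ⟶ P₁ := fun o => Over.homMk (O o).ι rfl
  let sV : ∀ i, Z (some i) ⟶ V := fun i => Over.homMk (s i) (by
    show s i ≫ g ≫ M.hom = (R i).ι ≫ pullback.fst q v ≫ M.hom
    rw [← Category.assoc, hs, Category.assoc])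
  obtain ⟨y, hy⟩ := hP.exists_glue_disjoint Z incl (fun o => inferInstanceAs (Etale (O o).ι))
    (fun o => inferInstanceAs (Mono (O o).ι)) (fun o o' x x' hxx' => by
      have e : (x.1 : ↥(pullback q v)) = x'.1 := hxx'
      rcases o with _ | i <;> rcases o' with _ | j
      · rfl
      · exact absurd (Set.mem_iUnion.2 ⟨j, e ▸ x'.2⟩) x.2
      · exact absurd (Set.mem_iUnion.2 ⟨i, e.symm ▸ x.2⟩) x'.2
      · by_contra hne
        exact Set.disjoint_left.1 (TopologicalSpace.Opens.coe_disjoint.2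
          (hd i j fun h => hne (congrArg some h))) x.2 (e ▸ x'.2))
    (fun z => by
      by_cases hz : z ∈ ⋃ i, (R i : Set ↥(pullback q v))
      · obtain ⟨i, hi⟩ := Set.mem_iUnion.1 hz
        exact ⟨some i, ⟨z, hi⟩, rfl⟩
      · exact ⟨none, ⟨z, hz⟩, rfl⟩)
    fun o => match o with
      | none => (h0 _).some
      | some i => P.map (sV i).op τ
  refine ⟨V', v, hv, η'.1, η'.2, fun M₁ m q₁ hm => ?_⟩
  let l : M₁ ⟶ P₁ := Over.homMk (pullback.lift m.left q₁ hm) ((pullback.lift_fst_assoc _ _ _ _).trans (Over.w m))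
  refine ⟨P.map l.op y, fun i c hcq hcm => ?_⟩
  let pz : Over.mk (p i ≫ M.hom) ⟶ Z (some i) := Over.homMk (pp i) (by
    show pp i ≫ (R i).ι ≫ pullback.fst q v ≫ M.hom = p i ≫ M.hom
    rw [← Category.assoc (R i).ι, ← hs, Category.assoc, reassoc_of% (hpp i).2]
    exact (Category.assoc _ _ _).symm.trans (congrArg (· ≫ M.hom) (hrg i)))
  have hcl' : c ≫ l = pz ≫ incl (some i) := by
    refine Over.OverMorphism.ext (pullback.hom_ext ?_ ?_)
    · show (c.left ≫ pullback.lift m.left q₁ hm) ≫ pullback.fst q v = (pp i ≫ (R i).ι) ≫ pullback.fst q v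
      rw [Category.assoc, pullback.lift_fst, hcm, Category.assoc, ← hs, reassoc_of% (hpp i).2, hrg]
    · show (c.left ≫ pullback.lift m.left q₁ hm) ≫ pullback.snd q v = (pp i ≫ (R i).ι) ≫ pullback.snd q v
      rw [Category.assoc, pullback.lift_snd, hcq]
      exact ((Category.assoc _ _ _).trans (hpp i).1).symm
  rw [← EtDescentLib.map_comp_apply', hcl', EtDescentLib.map_comp_apply', hy, ← EtDescentLib.map_comp_apply',
    show pz ≫ sV i = b i ≫ inc i from Over.OverMorphism.ext (hpp i).2, EtDescentLib.map_comp_apply', hτ, ht]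

variable {π}

/-- Sheaves with germs are acyclic. -/
theorem acy_of_hasGerms (H : EtFppf.AbF S) (hH : HasGerms (H.obj ⋙ forget AddCommGrpCat.{u + 1})) : Acy H := by
  intro W' W π hπ n x hx z
  obtain ⟨hfin, -, -, hsurj⟩ := (ffc_iff _).1 hπ
  let P := H.obj ⋙ forget AddCommGrpCat.{u + 1}
  let N := nerveOf π
  let Ω := AlgebraicClosure (W.left.residueField z)
  let η : Spec (CommRingCat.of Ω) ⟶ W.left := gpt z
  let G : Over S := Over.mk (η ≫ W.hom)
  have hG : IsGeo G.left := ⟨Ω, inferInstance, inferInstance, ⟨Iso.refl _⟩⟩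
  let Φ := {φ : G ⟶ W' // (φ ≫ π).left = η}
  haveI : Finite Φ := by
    haveI := finite_gpts π.left η (Scheme.Hom.finite_preimage_singleton _ _)
    exact Finite.of_injective (fun φ : Φ => (⟨φ.1.left, φ.2⟩ : GPts π.left η))
      fun φ φ' e => Subtype.ext (Over.OverMorphism.ext (congrArg Subtype.val e))
  obtain ⟨φ₀⟩ : Nonempty Φ := by
    obtain ⟨w, hw⟩ := π.left.surjective z
    obtain ⟨⟨c, hc⟩, -⟩ := exists_gpt π.left w η (by rw [hw]; exact (img_gpt z).symm)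
    exact ⟨⟨Over.homMk c (by rw [← Over.w π, ← Category.assoc, hc]; rfl), hc⟩⟩
  have hΦ : ∀ φ φ' : Φ, φ.1 ≫ π = φ'.1 ≫ π := fun φ φ' => Over.OverMorphism.ext (φ.2.trans φ'.2.symm)
  let pt : ∀ m, (Fin (m + 1) → Φ) → (G ⟶ N.obj m) := fun m ψ => N.lift m (fun k => (ψ k).1) fun k => hΦ _ _
  have pt_pr : ∀ m ψ k, pt m ψ ≫ N.pr m k = (ψ k).1 := fun m ψ k => N.fac _ _ _ _
  have pt_face : ∀ m (ψ : Fin (m + 2) → Φ) (i : Fin (m + 2)), pt (m + 1) ψ ≫ N.face m i = pt m (ψ ∘ i.succAbove) :=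
    fun m ψ i => N.ext _ _ _ fun k => by rw [Category.assoc, N.face_pr, pt_pr, pt_pr]; rfl
  let bv : (Fin (n + 1) → Φ) → H.obj.obj (op G) := fun ψ => H.obj.map (pt (n + 1) (Fin.cons φ₀ ψ)).op x
  have hcoc : ∀ ψ : Fin (n + 2) → Φ,
      ∑ i : Fin (n + 2), ((-1 : ℤ) ^ (i : ℕ)) • bv (ψ ∘ i.succAbove) = H.obj.map (pt (n + 1) ψ).op x := by
    intro ψ
    have e := congrArg (H.obj.map (pt (n + 2) (Fin.cons φ₀ ψ)).op) hx
    rw [cechD_apply, map_zero, map_sum, Fin.sum_univ_succ] at e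
    have hf : ∀ j : Fin (n + 3),
        H.obj.map (pt (n + 2) (Fin.cons φ₀ ψ)).op (H.obj.map ((nerveOf π).face (n + 1) j).op x) =
          H.obj.map (pt (n + 1) ((Fin.cons φ₀ ψ : Fin (n + 3) → Φ) ∘ j.succAbove)).op x := fun j =>
      (Functor.map_comp_apply H.obj _ _ x).symm.trans
        (congrArg (fun m => H.obj.map (Quiver.Hom.op m) x) (pt_face (n + 1) _ j))
    simp only [map_zsmul, map_neg, Fin.val_zero, pow_zero, one_smul, Fin.val_succ, pow_succ, mul_neg, mul_one,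
      neg_smul, hf] at e
    have h1 : ∀ j : Fin (n + 2), (Fin.cons φ₀ ψ : Fin (n + 3) → Φ) ∘ j.succ.succAbove =
        Fin.cons φ₀ (ψ ∘ j.succAbove) := fun j => by
      funext k
      induction k using Fin.cases with
      | zero => simp [Fin.succ_succAbove_zero]
      | succ k => simp [Fin.succ_succAbove_succ]
    rw [Fin.succAbove_zero, show ((Fin.cons φ₀ ψ : Fin (n + 3) → Φ) ∘ Fin.succ) = ψ from funext fun k => rfl,
      Finset.sum_neg_distrib] at e
    simp only [h1] at e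
    exact (add_neg_eq_zero.1 e).symm
  haveI := isFinite_nerve_hom π n
  have hinj : Function.Injective (pt n) := fun ψ ψ' e => funext fun k => Subtype.ext (by rw [← pt_pr, e, pt_pr])
  have hw : ∀ ψ, (pt n ψ).left ≫ (N.obj n).hom = η ≫ W.hom := fun ψ => Over.w (pt n ψ)
  let ε : ∀ ψ, (Over.mk ((pt n ψ).left ≫ (N.obj n).hom) : Over S) ⟶ G := fun ψ =>
    Over.homMk (𝟙 _) ((Category.id_comp _).trans (hw ψ).symm)
  let ε' : ∀ ψ, G ⟶ (Over.mk ((pt n ψ).left ≫ (N.obj n).hom) : Over S) := fun ψ =>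
    Over.homMk (𝟙 _) ((Category.id_comp _).trans (hw ψ))
  obtain ⟨E', e', he', α, hα, hsec⟩ := exists_section (P := P) hH (fun T => ⟨(0 : H.obj.obj (op T))⟩)
    (N.pr n 0 ≫ π).left η (fun ψ => (pt n ψ).left) (fun ψ => by
      rw [← Over.comp_left, reassoc_of% (pt_pr n ψ 0)]; exact (ψ 0).2) (fun ψ ψ' h => hinj (Over.OverMorphism.ext h))
    (fun ψ => H.obj.map (ε ψ).op (bv ψ))
  let E : Over S := Over.mk (e' ≫ W.hom)
  let e : E ⟶ W := Over.homMk e' rfl
  have he : Etale e.left := he'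
  let a₁ : G ⟶ E := Over.homMk α (by show α ≫ e' ≫ W.hom = η ≫ W.hom; rw [← Category.assoc, hα])
  have ha₁ : (a₁ ≫ e).left = η := hα
  obtain ⟨y₀⟩ := hG.nonempty
  let z₁ : E.left := a₁.left y₀
  have hz₁ : e.left z₁ = z := by
    show (a₁ ≫ e).left y₀ = z
    rw [ha₁]
    show (gpt z).base y₀ = z
    rw [Subsingleton.elim (α := ↥(Spec (CommRingCat.of Ω))) y₀ (IsLocalRing.closedPoint Ω)]
    exact img_gpt z
  let r : Ref π z := Ref.of π e he ⟨z₁, hz₁⟩
  obtain ⟨y, hy₀⟩ := hsec _ (r.nm n) ((nerveOf r.π₁).pr n 0 ≫ r.π₁).left (by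
    rw [← Over.comp_left, reassoc_of% (r.nm_pr n 0), r.sq.w]; rfl)
  have hy : ∀ (c : G ⟶ (nerveOf r.π₁).obj n) (ψ : Fin (n + 1) → Φ), c ≫ (nerveOf r.π₁).pr n 0 ≫ r.π₁ = a₁ →
      c ≫ r.nm n = pt n ψ → H.obj.map c.op y = bv ψ := by
    intro c ψ h1 h2
    have h3 : P.map (ε ψ ≫ c).op y = H.obj.map (ε ψ).op (bv ψ) := hy₀ ψ (ε ψ ≫ c)
      ((congrArg (· ≫ ((nerveOf r.π₁).pr n 0 ≫ r.π₁).left) (Category.id_comp c.left)).trans
        (congrArg CommaMorphism.left h1))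
      ((congrArg (· ≫ (r.nm n).left) (Category.id_comp c.left)).trans (congrArg CommaMorphism.left h2))
    have h4 := congrArg (H.obj.map (ε' ψ).op) h3
    have h5 : ε' ψ ≫ ε ψ = 𝟙 G := Over.OverMorphism.ext (Category.id_comp _)
    change H.obj.map (ε' ψ).op (H.obj.map (ε ψ ≫ c).op y) = _ at h4
    rw [← Functor.map_comp_apply, ← Functor.map_comp_apply, ← op_comp, ← op_comp, reassoc_of% h5, h5] at h4
    exact h4.trans (by simp)
  let N₁ := nerveOf r.π₁
  have key : ∀ c : G ⟶ N₁.obj (n + 1), c ≫ N₁.pr (n + 1) 0 ≫ r.π₁ = a₁ →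
      H.obj.map c.op (cechD N₁ H.obj n y) = H.obj.map c.op (H.obj.map (r.nm (n + 1)).op x) := by
    intro c hc
    let ψ : Fin (n + 2) → Φ := fun k => ⟨c ≫ N₁.pr (n + 1) k ≫ r.a', by
      rw [Category.assoc, Category.assoc, r.sq.w, reassoc_of% (N₁.w (n + 1) k), reassoc_of% hc]
      exact ha₁⟩
    have hψ : c ≫ r.nm (n + 1) = pt (n + 1) ψ := N.ext _ _ _ fun k => by
      rw [Category.assoc, r.nm_pr, pt_pr]
    rw [cechD_apply, map_sum, ← Functor.map_comp_apply, ← op_comp, hψ, ← hcoc]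
    refine Finset.sum_congr rfl fun i _ => ?_
    rw [map_zsmul, ← Functor.map_comp_apply, ← op_comp]
    congr 1
    refine hy _ (ψ ∘ i.succAbove) ?_ ?_
    · rw [Category.assoc, reassoc_of% (N₁.face_pr n i 0), N₁.w (n + 1), hc]
    · rw [Category.assoc, ← r.nm_face, ← Category.assoc, hψ, pt_face]
  let L := eqLocus (P := P) (N₁.obj (n + 1)) (cechD N₁ H.obj n y) (H.obj.map (r.nm (n + 1)).op x)
  obtain ⟨hfin₁, -⟩ := (ffc_iff _).1 (r.ffc hπ)
  haveI := isFinite_nerve_hom r.π₁ (n + 1)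
  obtain ⟨O, hO, hOL⟩ := EtSplitLib.exists_nhd_cover (N₁.pr (n + 1) 0 ≫ r.π₁).left
    (fun _ : PUnit.{1} => (⟨L, isOpen_eqLocus _ _ _⟩ : (N₁.obj (n + 1)).left.Opens)) z₁ fun q hq => ⟨⟨⟩, by
      obtain ⟨⟨c, hc⟩, hcq⟩ := exists_gpt (N₁.pr (n + 1) 0 ≫ r.π₁).left q (Ω := Ω) a₁.left (by
        rw [hq]
        show a₁.left y₀ = a₁.left (IsLocalRing.closedPoint Ω)
        exact congrArg a₁.left.base (hG.subsingleton _ _))
      let c' : G ⟶ N₁.obj (n + 1) := Over.homMk c (by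
        rw [← Over.w (N₁.pr (n + 1) 0 ≫ r.π₁), ← Category.assoc, hc]
        exact Over.w a₁)
      rw [← hcq]
      exact hH.mem_eqLocus c' hG (key c' (Over.OverMorphism.ext hc)) (IsLocalRing.closedPoint Ω)⟩
  let T₂ : Over S := Over.mk (O.ι ≫ E.hom)
  let o : T₂ ⟶ E := Over.homMk O.ι rfl
  let r₂ : Ref r.π₁ z₁ := Ref.of r.π₁ o (inferInstanceAs (Etale O.ι)) ⟨⟨z₁, hO⟩, rfl⟩
  refine ⟨r.comp hz₁ r₂, H.obj.map (r₂.nm n).op y, hH.ext fun G' c hG' => ?_⟩
  obtain ⟨y'⟩ := hG'.nonempty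
  have hmem : (c ≫ r₂.nm (n + 1)).left y' ∈ L := by
    have h1 : (c ≫ r₂.nm (n + 1)).left y' ∈ ((N₁.pr (n + 1) 0 ≫ r.π₁).left ⁻¹ᵁ O) := by
      have e1 : (c ≫ r₂.nm (n + 1)) ≫ N₁.pr (n + 1) 0 ≫ r.π₁ =
          (c ≫ (nerveOf r₂.π₁).pr (n + 1) 0 ≫ r₂.π₁) ≫ o := by
        rw [Category.assoc, reassoc_of% (r₂.nm_pr (n + 1) 0), r₂.sq.w, Category.assoc, Category.assoc]
        rfl
      show (N₁.pr (n + 1) 0 ≫ r.π₁).left.base ((c ≫ r₂.nm (n + 1)).left.base y') ∈ O
      rw [← Scheme.Hom.comp_apply, ← Over.comp_left, e1]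
      exact ((c ≫ (nerveOf r₂.π₁).pr (n + 1) 0 ≫ r₂.π₁).left y').2
    have h2 := hOL h1
    rwa [iSup_const] at h2
  have hloc := eq_of_mem_eqLocus hmem (c ≫ r₂.nm (n + 1)) hG' fun y'' => by rw [hG'.subsingleton y'' y']
  show H.obj.map c.op (cechD (nerveOf r₂.π₁) H.obj n (H.obj.map (r₂.nm n).op y)) =
    H.obj.map c.op (H.obj.map ((r.comp hz₁ r₂).nm (n + 1)).op x)
  have hn := r.nm_comp (z₁ := z₁) hz₁ r₂ (n + 1)
  refine (congrArg (H.obj.map c.op) (r₂.cechD_nm H.obj n y).symm).trans ?_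
  refine Eq.trans ?_ (congrArg (fun m => H.obj.map c.op (H.obj.map (Quiver.Hom.op m) x)) hn).symm
  simp only [op_comp, Functor.map_comp_apply] at hloc ⊢
  exact hloc

end EtFppfLib
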