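import Groth.Agent.EtDescentLib.Big
import Groth.Agent.WeightLib.Local
import Groth.Agent.S2735
import Groth.Prelude.Def_EtFppf
import Mathlib.AlgebraicGeometry.Morphisms.Finite

/-!
# fppf coverings are refined by finite flat coverings étale locally
-/

set_option autoImplicit false
set_option linter.style.haveILetI false
set_option linter.unusedSectionVars false
set_option backward.isDefEq.respectTransparency false
set_option backward.isDefEq.respectTransparency.types false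
universe u

open CategoryTheory CategoryTheory.Limits AlgebraicGeometry Opposite

namespace EtFppfLib

/-- Surjective finite flat morphisms of finite presentation. -/
def ffc : MorphismProperty Scheme.{u} := @IsFinite ⊓ @Flat ⊓ @LocallyOfFinitePresentation ⊓ @Surjective

theorem ffc_iff {X Y : Scheme.{u}} (f : X ⟶ Y) :
    ffc f ↔ IsFinite f ∧ Flat f ∧ LocallyOfFinitePresentation f ∧ Surjective f := by
  simp [ffc, and_assoc]

instance : ffc.{u}.IsStableUnderBaseChange := by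
  unfold ffc; infer_instance

/-- An étale-local finite flat covering inside a flat morphism of finite presentation. -/
theorem exists_ffc_etale {X Y : Scheme.{u}} (g : X ⟶ Y) [Flat g] [LocallyOfFinitePresentation g] (x : X) :
    ∃ (E : Scheme.{u}) (e : E ⟶ Y) (_ : Etale e) (T : Scheme.{u}) (π : T ⟶ E) (r : T ⟶ X),
      ffc π ∧ g x ∈ Set.range e.base ∧ r ≫ g = π ≫ e := by
  obtain ⟨X₀, hX₀, hx₀, -⟩ := exists_isAffineOpen_mem_and_subset (X := X) (x := x) (U := ⊤) trivial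
  haveI : IsAffine (X₀ : Scheme.{u}) := hX₀
  let h₀ := X₀.ι ≫ g
  let O : Y.Opens := ⟨Set.range h₀.base, h₀.isOpenMap.isOpen_range⟩
  let h₁ : (X₀ : Scheme.{u}) ⟶ O := IsOpenImmersion.lift O.ι h₀ (by rw [Scheme.Opens.range_ι]; exact subset_rfl)
  have hh₁ : h₁ ≫ O.ι = h₀ := IsOpenImmersion.lift_fac _ _ _
  haveI : Flat h₁ := by
    have : Flat (h₁ ≫ O.ι) := by rw [hh₁]; infer_instance
    exact MorphismProperty.of_postcomp (W := @Flat) (W' := @IsOpenImmersion) h₁ O.ι inferInstance this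
  haveI : LocallyOfFinitePresentation h₁ := by
    have : LocallyOfFinitePresentation (h₁ ≫ O.ι) := by rw [hh₁]; infer_instance
    exact MorphismProperty.of_postcomp (W := @LocallyOfFinitePresentation) (W' := @IsOpenImmersion) h₁ O.ι
      inferInstance this
  haveI : Surjective h₁ := ⟨fun v => by
    obtain ⟨a, ha⟩ := v.2
    refine ⟨a, O.ι.isOpenEmbedding.injective ?_⟩
    rw [← Scheme.Hom.comp_apply, hh₁]
    exact ha⟩
  obtain ⟨S', g', h, hg', _, _, _, _, -⟩ := Groth.Agent.S2735.result h₁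
  obtain ⟨a, ha⟩ := g'.surjective ⟨g x, ⟨⟨x, hx₀⟩, rfl⟩⟩
  obtain ⟨S₀, hS₀, ha₀, -⟩ := exists_isAffineOpen_mem_and_subset (X := S') (x := a) (U := ⊤) trivial
  haveI : IsAffine (S₀ : Scheme.{u}) := hS₀
  let q := S₀.ι ≫ g'
  obtain ⟨V, v, _, v₀, W, z, hv, hfin, hzW, hz₂, -, -⟩ := WeightLib.exists_finite_open q ⟨a, ha₀⟩
  let p := W.ι ≫ pullback.snd q v
  haveI : IsFinite p := hfin
  haveI : Flat p := inferInstance
  haveI : LocallyOfFinitePresentation p := inferInstance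
  let C : V.Opens := ⟨Set.range p.base, p.isOpenMap.isOpen_range⟩
  have hv₀ : v₀ ∈ C := ⟨⟨z, hzW⟩, hz₂⟩
  refine ⟨C, C.ι ≫ v ≫ O.ι, inferInstance, _, p ∣_ C,
    (p ⁻¹ᵁ C).ι ≫ W.ι ≫ pullback.fst q v ≫ S₀.ι ≫ h ≫ X₀.ι, ?_, ⟨⟨v₀, hv₀⟩, ?_⟩, ?_⟩
  · rw [ffc_iff]
    refine ⟨IsZariskiLocalAtTarget.restrict ‹_› C, IsZariskiLocalAtTarget.restrict ‹_› C,
      IsZariskiLocalAtTarget.restrict ‹_› C, ⟨fun ⟨c, hc⟩ => ?_⟩⟩
    obtain ⟨b, hb⟩ := hc
    refine ⟨⟨b, show p b ∈ C from ⟨b, rfl⟩⟩, Subtype.ext ?_⟩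
    rw [morphismRestrict_base]
    exact hb
  · show O.ι (v v₀) = g x
    rw [hv]
    show O.ι (g' a) = g x
    rw [ha]
    rfl
  · rw [morphismRestrict_ι_assoc]
    simp only [Category.assoc, p]
    rw [← pullback.condition_assoc]
    simp only [q, Category.assoc, ← hg', hh₁, h₀]

variable {S : Scheme.{u}}

/-- fppf coverings are refined by finite flat coverings étale locally. -/
theorem exists_refine {W : Over S} {R : Sieve W} (hR : R ∈ EtFppf.J S W) (z : W.left) :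
    ∃ (E : Over S) (e : E ⟶ W) (_ : Etale e.left) (T : Over S) (π : T ⟶ E),
      ffc π.left ∧ z ∈ Set.range e.left.base ∧ R.arrows (π ≫ e) := by
  haveI : (@Flat ⊓ @LocallyOfFinitePresentation : MorphismProperty Scheme.{u}).IsMultiplicative :=
    { id_mem := fun X => ⟨inferInstanceAs (Flat (𝟙 X)), inferInstanceAs (LocallyOfFinitePresentation (𝟙 X))⟩
      comp_mem := fun f g hf hg => ⟨MorphismProperty.comp_mem _ f g hf.1 hg.1, MorphismProperty.comp_mem _ f g hf.2 hg.2⟩ }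
  obtain ⟨𝒰, h𝒰⟩ := Scheme.exists_cover_of_mem_grothendieckTopology ((GrothendieckTopology.mem_over_iff _ R).1 hR)
  obtain ⟨i, y, hy⟩ := 𝒰.exists_eq z
  obtain ⟨hflat, hlfp⟩ : Flat (𝒰.f i) ∧ LocallyOfFinitePresentation (𝒰.f i) := 𝒰.map_prop i
  obtain ⟨E, e, he, T, π, r, hπ, hz, hr⟩ := exists_ffc_etale (𝒰.f i) y
  have hm : R.arrows (Over.homMk (𝒰.f i) : Over.mk (𝒰.f i ≫ W.hom) ⟶ W) :=
    (Sieve.overEquiv_iff R _).1 (h𝒰 _ _ (Presieve.ofArrows.mk i))
  refine ⟨Over.mk (e ≫ W.hom), Over.homMk e, he, Over.mk (π ≫ e ≫ W.hom), Over.homMk π rfl, hπ, hy ▸ hz, ?_⟩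
  have hfac : (Over.homMk r (by
      show r ≫ 𝒰.f i ≫ W.hom = π ≫ e ≫ W.hom
      rw [reassoc_of% hr]) : Over.mk (π ≫ e ≫ W.hom) ⟶ Over.mk (𝒰.f i ≫ W.hom)) ≫
        (Over.homMk (𝒰.f i) : Over.mk (𝒰.f i ≫ W.hom) ⟶ W) =
      (Over.homMk π rfl : Over.mk (π ≫ e ≫ W.hom) ⟶ Over.mk (e ≫ W.hom)) ≫ Over.homMk e :=
    Over.OverMorphism.ext hr
  exact hfac ▸ R.downward_closed hm _

end EtFppfLib
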