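import Groth.Agent.EtFppfLib.SmoothChart
import Groth.Prelude.Def_CGrpSh

/-!
# Points of smooth commutative group schemes are acyclic for finite flat coverings, etale locally
-/

set_option autoImplicit false
set_option linter.style.haveILetI false
set_option linter.unusedSectionVars false
set_option backward.isDefEq.respectTransparency false
set_option backward.isDefEq.respectTransparency.types false
universe u

open CategoryTheory CategoryTheory.Limits MonoidalCategory CartesianMonoidalCategory AlgebraicGeometry Opposite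
  Groth.Agent.EpsLib

namespace EtFppfLib.Smo

variable {S₁ S : Scheme.{u}}

/-- The finite locally free morphisms. -/
def flf : MorphismProperty Scheme.{u} := @IsFinite ⊓ @Flat ⊓ @LocallyOfFinitePresentation

theorem flf_iff {X Y : Scheme.{u}} (f : X ⟶ Y) :
    flf f ↔ IsFinite f ∧ Flat f ∧ LocallyOfFinitePresentation f := by
  simp [flf, and_assoc]

instance : flf.{u}.IsStableUnderBaseChange := by
  unfold flf; infer_instance

theorem nerve_props (A : Over S₁) (h : flf A.hom) : ∀ m, flf ((nerveOf (toUnit A)).obj m).hom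
  | 0 => h
  | m + 1 => by
    have hu : ∀ B : Over S₁, ∀ b : B ⟶ 𝟙_ (Over S₁), b.left = B.hom := fun B b => by
      rw [← Over.w b]; exact (Category.comp_id _).symm
    have h1 : flf (pow (toUnit A) m).hom.left := by
      rw [hu]; exact nerve_props A h m
    have h2 : flf (pullback.fst (toUnit A) (pow (toUnit A) m).hom).left :=
      MorphismProperty.of_isPullback (P := flf)
        ((IsPullback.of_hasPullback (toUnit A) (pow (toUnit A) m).hom).map (Over.forget S₁)).flip h1
    obtain ⟨_, _, _⟩ := (flf_iff _).1 h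
    obtain ⟨_, _, _⟩ := (flf_iff _).1 h2
    show flf (pullback (toUnit A) (pow (toUnit A) m).hom).hom
    rw [← Over.w (pullback.fst (toUnit A) (pow (toUnit A) m).hom), flf_iff]
    exact ⟨inferInstance, inferInstance, inferInstance⟩

/-- Nerves along `Over.map`. -/
noncomputable def mapNerve (j : S₁ ⟶ S) {A' A : Over S₁} {ρ : A' ⟶ A} (N : Nerve ρ) :
    Nerve ((Over.map j).map ρ) where
  obj n := (Over.map j).obj (N.obj n)
  pr n k := (Over.map j).map (N.pr n k)
  w n k := by rw [← Functor.map_comp, ← Functor.map_comp, N.w]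
  lift n Z t h :=
    let Z' : Over S₁ := Over.mk ((t 0).left ≫ A'.hom)
    have ht : ∀ k, (t k).left ≫ ρ.left = (t 0).left ≫ ρ.left := fun k => congrArg CommaMorphism.left (h k)
    let t' : ∀ _ : Fin (n + 1), Z' ⟶ A' := fun k => Over.homMk (t k).left (by
      show (t k).left ≫ A'.hom = (t 0).left ≫ A'.hom
      rw [← Over.w ρ, ← Category.assoc, ← Category.assoc, ht k])
    let l : Z' ⟶ N.obj n := N.lift n t' fun k => Over.OverMorphism.ext (ht k)
    Over.homMk l.left (by
      show l.left ≫ (N.obj n).hom ≫ j = Z.hom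
      rw [← Category.assoc, Over.w l, ← Over.w (t 0)]
      exact Category.assoc _ _ _)
  fac n Z t h k := Over.OverMorphism.ext (by
    let t' : ∀ _ : Fin (n + 1), Over.mk ((t 0).left ≫ A'.hom) ⟶ A' := fun k => Over.homMk (t k).left (by
      show (t k).left ≫ A'.hom = (t 0).left ≫ A'.hom
      rw [← Over.w ρ, ← Category.assoc, ← Category.assoc]
      exact congrArg (· ≫ A.hom) (congrArg CommaMorphism.left (h k)))
    have := congrArg CommaMorphism.left (N.fac n t' (fun k => Over.OverMorphism.ext (congrArg CommaMorphism.left (h k) :)) k)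
    exact this)
  ext n Z a b h := by
    have h0 : ∀ k, a.left ≫ (N.pr n k).left = b.left ≫ (N.pr n k).left := fun k => congrArg CommaMorphism.left (h k)
    let Z' : Over S₁ := Over.mk (a.left ≫ (N.obj n).hom)
    have hb : b.left ≫ (N.obj n).hom = a.left ≫ (N.obj n).hom := by
      rw [← Over.w (N.pr n 0), ← Category.assoc, ← h0 0, Category.assoc]
    have hh := congrArg CommaMorphism.left (N.ext n (Over.homMk a.left rfl : Z' ⟶ N.obj n)
      (Over.homMk b.left hb) fun k => Over.OverMorphism.ext (h0 k))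
    exact Over.OverMorphism.ext hh

theorem mapNerve_face (j : S₁ ⟶ S) {A' A : Over S₁} {ρ : A' ⟶ A} (N : Nerve ρ) (n : ℕ) (i : Fin (n + 2)) :
    (mapNerve j N).face n i = (Over.map j).map (N.face n i) :=
  (mapNerve j N).ext n _ _ fun k => by
    rw [(mapNerve j N).face_pr]
    show (Over.map j).map (N.pr (n + 1) (i.succAbove k)) = _ ≫ (Over.map j).map (N.pr n k)
    rw [← Functor.map_comp, N.face_pr]

/-- Points of smooth commutative group schemes are acyclic. -/
theorem acy_pts (G : Over S) [GrpObj G] [IsCommMonObj G] [Smooth G.hom] :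
    Acy (CGrpSh.pts Scheme.fppfPrecoverage G : EtFppf.AbF S) := by
  intro W' W π hπ n x hx z
  obtain ⟨_, _, _, _⟩ := (ffc_iff _).1 hπ
  obtain ⟨W₁, hW₁, hz, -⟩ := exists_isAffineOpen_mem_and_subset (X := W.left) (x := z) (U := ⊤) trivial
  haveI : IsAffine (W₁ : Scheme.{u}) := hW₁
  let j : (W₁ : Scheme.{u}) ⟶ S := W₁.ι ≫ W.hom
  let A : Over (W₁ : Scheme.{u}) := Over.mk (pullback.snd π.left W₁.ι)
  have hA : ffc A.hom := ffc.of_isPullback (IsPullback.of_hasPullback π.left W₁.ι) hπ
  obtain ⟨hA₁, hA₂, hA₃, hA₄⟩ := (ffc_iff _).1 hA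
  let N₁ := nerveOf (toUnit A)
  let F := Over.map j
  have hu : ∀ (B : Over (W₁ : Scheme.{u})) (b : B ⟶ 𝟙_ _), b.left = B.hom := fun B b => by
    rw [← Over.w b]; exact (Category.comp_id _).symm
  let c' : F.obj A ⟶ W' := Over.homMk (pullback.fst π.left W₁.ι) (by
    show pullback.fst π.left W₁.ι ≫ W'.hom = pullback.snd π.left W₁.ι ≫ W₁.ι ≫ W.hom
    rw [← Over.w π, pullback.condition_assoc])
  let c : F.obj (𝟙_ _) ⟶ W := Over.homMk W₁.ι (by
    show W₁.ι ≫ W.hom = 𝟙 _ ≫ j
    rw [Category.id_comp])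
  have hc : c' ≫ π = F.map (toUnit A) ≫ c := Over.OverMorphism.ext (by
    show pullback.fst π.left W₁.ι ≫ π.left = (toUnit A).left ≫ W₁.ι
    rw [hu, pullback.condition]; rfl)
  let nm : ∀ m, F.obj (N₁.obj m) ⟶ (nerveOf π).obj m := fun m =>
    (nerveOf π).lift m (fun k => F.map (N₁.pr m k) ≫ c') fun k => by
      rw [Category.assoc, Category.assoc, hc, ← F.map_comp_assoc, ← F.map_comp_assoc, N₁.w]
  have nm_pr : ∀ m k, nm m ≫ (nerveOf π).pr m k = F.map (N₁.pr m k) ≫ c' := fun m k => (nerveOf π).fac _ _ _ k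
  have nm_face : ∀ m i, F.map (N₁.face m i) ≫ nm m = nm (m + 1) ≫ (nerveOf π).face m i := fun m i =>
    (nerveOf π).ext m _ _ fun k => by
      rw [Category.assoc, Category.assoc, nm_pr, Nerve.face_pr, nm_pr, ← F.map_comp_assoc, N₁.face_pr]
  let Q : (Over S)ᵒᵖ ⥤ AddCommGrpCat.{u + 1} := CGrpSh.ptsPre G
  have hcomp : ∀ {a b c : Over S} (f : c ⟶ b) (g : b ⟶ a) (w : Q.obj (op a)),
      Q.map f.op (Q.map g.op w) = Q.map (f ≫ g).op w := fun f g w =>
    (Functor.map_comp_apply Q g.op f.op w).symm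
  let P : (Over (W₁ : Scheme.{u}))ᵒᵖ ⥤ AddCommGrpCat.{u + 1} := F.op ⋙ Q
  let x₁ : P.obj (op (N₁.obj (n + 1))) := Q.map (nm (n + 1)).op x
  have hx₁ : cechD N₁ P (n + 1) x₁ = 0 := by
    have hx' : cechD (nerveOf π) Q (n + 1) x = 0 := hx
    rw [cechD_apply]
    refine Eq.trans ?_ ((congrArg (Q.map (nm (n + 2)).op) hx').trans (map_zero _))
    rw [cechD_apply, map_sum]
    refine Finset.sum_congr rfl fun i _ => ?_
    show _ • Q.map (F.map (N₁.face (n + 1) i)).op (Q.map (nm (n + 1)).op x) = _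
    rw [map_zsmul, ← Functor.map_comp_apply, ← Functor.map_comp_apply, ← op_comp, ← op_comp, nm_face]
  haveI : Smooth ((Over.pullback j).obj G).hom := MorphismProperty.pullback_snd (P := @Smooth) _ _ ‹_›
  let e : ∀ T : Over (W₁ : Scheme.{u}), P.obj (op T) ≃ (T ⟶ (Over.pullback j).obj G) := fun T =>
    Equiv.ulift.trans (Additive.toMul.trans ((Over.mapPullbackAdj j).homEquiv T G))
  have he : ∀ {T T' : Over (W₁ : Scheme.{u})} (m : T' ⟶ T) (y : P.obj (op T)),
      e T' (P.map m.op y) = m ≫ e T y := fun m y =>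
    (Over.mapPullbackAdj j).homEquiv_naturality_left m _
  obtain ⟨T, hT, y, hzT, hy⟩ := exists_coboundary (N := N₁) e he ⟨hA₁, hA₂, hA₃, hA₄⟩
    (fun m => (flf_iff _).1 (nerve_props A ((flf_iff _).2 ⟨hA₁, hA₂, hA₃⟩) m)) x₁ hx₁ ⟨z, hz⟩
  have hal : (F.map (toUnit T) ≫ c).left = T.hom ≫ W₁.ι := by
    show (toUnit T).left ≫ W₁.ι = _
    rw [hu]
  let r : Ref π z :=
    { T' := F.obj (A ⊗ T)
      T := F.obj T
      π₁ := F.map (snd A T)
      a' := F.map (fst A T) ≫ c'
      a := F.map (toUnit T) ≫ c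
      et := by rw [hal]; infer_instance
      sq := IsPullback.of_map (Over.forget S) (by
          rw [Category.assoc, hc, ← F.map_comp_assoc, ← F.map_comp_assoc, toUnit_unique (fst A T ≫ toUnit A)
            (snd A T ≫ toUnit T)]) (by
          show IsPullback (pullback.fst A.hom T.hom ≫ pullback.fst π.left W₁.ι) (pullback.snd A.hom T.hom) π.left
            (F.map (toUnit T) ≫ c).left
          rw [hal]
          exact (IsPullback.of_hasPullback A.hom T.hom).paste_horiz (IsPullback.of_hasPullback π.left W₁.ι))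
      mem := by
        obtain ⟨t, ht⟩ := hzT
        exact ⟨t, by rw [hal]; exact congrArg W₁.ι.base ht⟩ }
  let M := mapNerve j (NT N₁ T)
  let ψ : ∀ m, (nerveOf r.π₁).obj m ⟶ M.obj m := fun m => M.lift m ((nerveOf r.π₁).pr m) ((nerveOf r.π₁).w m)
  have ψ_pr : ∀ m k, ψ m ≫ M.pr m k = (nerveOf r.π₁).pr m k := fun m k => M.fac _ _ _ k
  have ψ_face : ∀ m i, (nerveOf r.π₁).face m i ≫ ψ m = ψ (m + 1) ≫ F.map (N₁.face m i ▷ T) := fun m i => by
    rw [← NT_face, ← mapNerve_face]
    exact M.ext m _ _ fun k => by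
      rw [Category.assoc, Category.assoc, ψ_pr, Nerve.face_pr, M.face_pr, ψ_pr]
  refine ⟨r, Q.map (ψ n).op y, ?_⟩
  show cechD (nerveOf r.π₁) Q n (Q.map (ψ n).op y) = Q.map (r.nm (n + 1)).op x
  have hy' := congrArg (Q.map (ψ (n + 1)).op) hy
  rw [dT_apply] at hy'
  refine Eq.trans ?_ (hy'.trans ?_)
  · rw [cechD_apply, map_sum]
    refine Finset.sum_congr rfl fun i _ => ?_
    show _ = Q.map (ψ (n + 1)).op (_ • Q.map (F.map (N₁.face n i ▷ T)).op y)
    rw [map_zsmul]
    refine congrArg (_ • ·) ?_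
    exact (hcomp _ _ _).trans ((congrArg (fun m => Q.map (Quiver.Hom.op m) y) (ψ_face n i)).trans (hcomp _ _ _).symm)
  · show Q.map (ψ (n + 1)).op (Q.map (F.map (fst (N₁.obj (n + 1)) T)).op (Q.map (nm (n + 1)).op x)) = _
    refine ((congrArg (Q.map (ψ (n + 1)).op) (hcomp _ _ x)).trans (hcomp _ _ x)).trans ?_
    refine congrArg (fun m => Q.map (Quiver.Hom.op m) x) ((nerveOf π).ext _ _ _ fun k => ?_)
    rw [r.nm_pr, Category.assoc, Category.assoc, nm_pr, ← ψ_pr (n + 1) k, Category.assoc]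
    show _ = ψ (n + 1) ≫ F.map (N₁.pr (n + 1) k ▷ T) ≫ F.map (fst A T) ≫ c'
    rw [← F.map_comp_assoc (N₁.pr (n + 1) k ▷ T), whiskerRight_fst, F.map_comp_assoc]

end EtFppfLib.Smo
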