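import Groth.Agent.EtFppfLib.SmoothLift
import Groth.Agent.EtFppfLib.Cech
import Groth.Agent.FinHomLib.Main

/-!
# Cech complexes of a covering of the base with smooth representable coefficients
-/

set_option autoImplicit false
set_option linter.style.haveILetI false
set_option linter.unusedSectionVars false
set_option backward.isDefEq.respectTransparency false
set_option backward.isDefEq.respectTransparency.types false
universe u

open CategoryTheory CategoryTheory.Limits MonoidalCategory CartesianMonoidalCategory AlgebraicGeometry Opposite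
  Groth.Agent.EpsLib

namespace EtFppfLib.Smo

section Homotopy

variable {C : Type (u + 1)} [Category.{u} C] {W' W : C} {π : W' ⟶ W} (N : Nerve π) (σ : W ⟶ W') (hσ : σ ≫ π = 𝟙 W)

/-- Prepend the vertex given by a section. -/
def κ (m : ℕ) : N.obj m ⟶ N.obj (m + 1) :=
  prep N (fun a => a ≫ σ) (fun a => by rw [Category.assoc, hσ, Category.comp_id]) m (𝟙 _)

theorem prep_comp {V V' : C} (g : V' ⟶ V) (m : ℕ) (x : V ⟶ N.obj m) :
    g ≫ prep N (fun a => a ≫ σ) (fun a => by rw [Category.assoc, hσ, Category.comp_id]) m x =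
      prep N (fun a => a ≫ σ) (fun a => by rw [Category.assoc, hσ, Category.comp_id]) m (g ≫ x) :=
  N.ext _ _ _ fun k => by
    rw [Category.assoc, prep, N.fac, prep, N.fac]
    induction k using Fin.cases with
    | zero => simp only [Fin.cons_zero, Category.assoc]
    | succ k => simp only [Fin.cons_succ, Category.assoc]

theorem κ_face_zero (m : ℕ) : κ N σ hσ m ≫ N.face m 0 = 𝟙 _ := prep_face_zero _ _ _ _ _

theorem κ_face_succ (m : ℕ) (i : Fin (m + 2)) :
    κ N σ hσ (m + 1) ≫ N.face (m + 1) i.succ = N.face m i ≫ κ N σ hσ m := by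
  rw [κ, prep_face_succ, κ, prep_comp _ _ hσ, Category.id_comp, Category.comp_id]

theorem κ_pr (m : ℕ) (k : Fin (m + 2)) : κ N σ hσ m ≫ N.pr (m + 1) k =
    (Fin.cons ((N.pr m 0 ≫ π) ≫ σ) (fun j => N.pr m j) : Fin (m + 2) → (N.obj m ⟶ W')) k := by
  rw [κ, prep, N.fac]
  induction k using Fin.cases with
  | zero => simp only [Fin.cons_zero, Category.id_comp]
  | succ k => simp only [Fin.cons_succ, Category.id_comp]

theorem homotopy (P : Cᵒᵖ ⥤ AddCommGrpCat.{u + 1}) (m : ℕ) (y : P.obj (op (N.obj (m + 1)))) :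
    P.map (κ N σ hσ (m + 1)).op (cechD N P (m + 1) y) + cechD N P m (P.map (κ N σ hσ m).op y) = y := by
  rw [cechD_apply, cechD_apply, map_sum, Fin.sum_univ_succ]
  simp only [map_zsmul, ← Functor.map_comp_apply, ← op_comp, κ_face_zero, κ_face_succ, Fin.val_zero, pow_zero,
    one_smul, op_id, Functor.map_id, Fin.val_succ, pow_succ, mul_neg_one, neg_smul, Finset.sum_neg_distrib]
  simp only [map_neg, map_zsmul, ← Functor.map_comp_apply, ← op_comp, κ_face_succ, Finset.sum_neg_distrib]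
  rw [neg_add_cancel_right]
  exact ConcreteCategory.congr_hom (P.map_id _) y

end Homotopy

variable {S : Scheme.{u}} {W' : Over S} (N : Nerve (toUnit W'))

/-- The nerve of the base change of `W'` to `T`. -/
noncomputable def NT (T : Over S) : Nerve (snd W' T) where
  obj n := N.obj n ⊗ T
  pr n k := N.pr n k ▷ T
  w n k := by rw [whiskerRight_snd, whiskerRight_snd]
  lift n _ t _ := lift (N.lift n (fun k => t k ≫ fst W' T) fun _ => toUnit_unique _ _) (t 0 ≫ snd W' T)
  fac n _ t h k := CartesianMonoidalCategory.hom_ext _ _ (by simp [N.fac]) (by simpa using (h k).symm)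
  ext n _ a b h := CartesianMonoidalCategory.hom_ext _ _
    (N.ext n _ _ fun k => by simpa using congrArg (· ≫ fst W' T) (h k))
    (by simpa using congrArg (· ≫ snd W' T) (h 0))

theorem NT_face (T : Over S) (n : ℕ) (i : Fin (n + 2)) : (NT N T).face n i = N.face n i ▷ T :=
  (NT N T).ext n _ _ fun k => by
    rw [(NT N T).face_pr]
    show N.pr (n + 1) (i.succAbove k) ▷ T = (N.face n i ▷ T) ≫ (N.pr n k ▷ T)
    rw [← comp_whiskerRight, N.face_pr]

variable (P : (Over S)ᵒᵖ ⥤ AddCommGrpCat.{u + 1})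

/-- The differential after base change to `T`. -/
noncomputable def dT (T : Over S) (n : ℕ) : P.obj (op (N.obj n ⊗ T)) →+ P.obj (op (N.obj (n + 1) ⊗ T)) :=
  ∑ i : Fin (n + 2), ((-1 : ℤ) ^ (i : ℕ)) • (P.map (N.face n i ▷ T).op).hom

theorem dT_apply (T : Over S) (n : ℕ) (y : P.obj (op (N.obj n ⊗ T))) :
    dT N P T n y = ∑ i : Fin (n + 2), ((-1 : ℤ) ^ (i : ℕ)) • P.map (N.face n i ▷ T).op y := by
  simp [dT, AddMonoidHom.finsetSum_apply]

theorem dT_eq (T : Over S) (n : ℕ) (y : P.obj (op (N.obj n ⊗ T))) :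
    dT N P T n y = cechD (NT N T) P n y := by
  rw [dT_apply]
  refine Eq.trans ?_ (cechD_apply (NT N T) P n y).symm
  refine Finset.sum_congr rfl fun i _ => ?_
  rw [← NT_face]
  rfl

theorem dT_dT (T : Over S) (n : ℕ) (y : P.obj (op (N.obj n ⊗ T))) : dT N P T (n + 1) (dT N P T n y) = 0 :=
  ((dT_eq N P T (n + 1) _).trans (congrArg (cechD (NT N T) P (n + 1)) (dT_eq N P T n y))).trans
    (cechD_cechD _ _ _ _)

theorem dT_natural {T T' : Over S} (t : T' ⟶ T) (n : ℕ) (y : P.obj (op (N.obj n ⊗ T))) :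
    P.map (N.obj (n + 1) ◁ t).op (dT N P T n y) = dT N P T' n (P.map (N.obj n ◁ t).op y) := by
  rw [dT_apply, dT_apply, map_sum]
  refine Finset.sum_congr rfl fun i _ => ?_
  rw [map_zsmul, ← Functor.map_comp_apply, ← Functor.map_comp_apply, ← op_comp, ← op_comp, whisker_exchange]

theorem cocycle_T (T : Over S) {n : ℕ} (x : P.obj (op (N.obj (n + 1)))) (hx : cechD N P (n + 1) x = 0) :
    dT N P T (n + 1) (P.map (fst (N.obj (n + 1)) T).op x) = 0 := by
  have h : P.map (fst (N.obj (n + 2)) T).op (cechD N P (n + 1) x) =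
      dT N P T (n + 1) (P.map (fst (N.obj (n + 1)) T).op x) := by
    rw [dT_apply, cechD_apply, map_sum]
    refine Finset.sum_congr rfl fun i _ => ?_
    rw [map_zsmul, ← Functor.map_comp_apply, ← Functor.map_comp_apply, ← op_comp, ← op_comp, whiskerRight_fst]
  rw [← h, hx, map_zero]

variable {N P}

/-- The homotopy given by a point of the covering. -/
noncomputable def htp {T : Over S} (s : T ⟶ W') (m : ℕ) : N.obj m ⊗ T ⟶ N.obj (m + 1) ⊗ T :=
  κ (NT N T) (lift s (𝟙 T)) (lift_snd _ _) m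

theorem htp_natural {T T₀ : Over S} (t : T₀ ⟶ T) (s : T ⟶ W') (m : ℕ) :
    htp (N := N) (t ≫ s) m ≫ (N.obj (m + 1) ◁ t) = (N.obj m ◁ t) ≫ htp s m := by
  refine (NT N T).ext _ _ _ fun k => ?_
  have e : ∀ j, (N.obj (m + 1) ◁ t) ≫ (N.pr (m + 1) j ▷ T) = (N.pr (m + 1) j ▷ T₀) ≫ (W' ◁ t) :=
    fun j => whisker_exchange _ _
  show (htp (t ≫ s) m ≫ _) ≫ (N.pr (m + 1) k ▷ T) = ((N.obj m ◁ t) ≫ htp s m) ≫ _
  rw [Category.assoc, Category.assoc, e, ← Category.assoc]
  show (κ (NT N T₀) _ _ m ≫ (NT N T₀).pr (m + 1) k) ≫ _ = _ ≫ κ (NT N T) _ _ m ≫ (NT N T).pr (m + 1) k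
  rw [κ_pr, κ_pr]
  induction k using Fin.cases with
  | zero =>
    simp only [Fin.cons_zero]
    exact CartesianMonoidalCategory.hom_ext _ _ (by simp [NT]) (by simp [NT])
  | succ k =>
    simp only [Fin.cons_succ]
    exact (whisker_exchange _ _).symm

theorem homotopy_T {T : Over S} (s : T ⟶ W') (m : ℕ) (y : P.obj (op (N.obj (m + 1) ⊗ T))) :
    P.map (htp s (m + 1)).op (dT N P T (m + 1) y) + dT N P T m (P.map (htp s m).op y) = y := by
  rw [dT_eq, dT_eq]
  exact homotopy (NT N T) (lift s (𝟙 T)) (lift_snd _ _) P m y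

theorem exists_coboundary_of_section {T : Over S} (s : T ⟶ W') {n : ℕ} (x : P.obj (op (N.obj (n + 1))))
    (hx : cechD N P (n + 1) x = 0) :
    dT N P T n (P.map (htp s n).op (P.map (fst (N.obj (n + 1)) T).op x)) = P.map (fst (N.obj (n + 1)) T).op x := by
  have h := homotopy_T (P := P) s n (P.map (fst (N.obj (n + 1)) T).op x)
  rwa [cocycle_T N P T x hx, map_zero, zero_add] at h

variable {X : Over S} (e : ∀ T : Over S, P.obj (op T) ≃ (T ⟶ X))
  (he : ∀ {T T' : Over S} (m : T' ⟶ T) (y : P.obj (op T)), e T' (P.map m.op y) = m ≫ e T y)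

include he

theorem e_symm_natural {T T' : Over S} (m : T' ⟶ T) (w : T ⟶ X) :
    P.map m.op ((e T).symm w) = (e T').symm (m ≫ w) :=
  (e T').injective (by rw [he, Equiv.apply_symm_apply, Equiv.apply_symm_apply])

/-- Solutions of the coboundary equation lift along square-zero thickenings over a point of the covering. -/
theorem exists_lift_solution [Smooth X.hom] {B : Type u} [CommRing B] {I : Ideal B} (hI : I ^ 2 = ⊥)
    (b : Spec (CommRingCat.of B) ⟶ S) (s : Over.mk b ⟶ W') {n : ℕ} [IsAffineHom (N.obj n).hom]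
    (x : P.obj (op (N.obj (n + 1)))) (hx : cechD N P (n + 1) x = 0)
    {T₀ : Over S} (t : T₀ ⟶ Over.mk b) (q₀ : T₀.left ≅ Spec (CommRingCat.of (B ⧸ I)))
    (ht : t.left = q₀.hom ≫ Spec.map (CommRingCat.ofHom (Ideal.Quotient.mk I)))
    (y₀ : P.obj (op (N.obj n ⊗ T₀))) (hy₀ : dT N P T₀ n y₀ = P.map (fst (N.obj (n + 1)) T₀).op x) :
    ∃ y, dT N P (Over.mk b) n y = P.map (fst (N.obj (n + 1)) (Over.mk b)).op x ∧
      P.map (N.obj n ◁ t).op y = y₀ := by
  let T := Over.mk b
  let Z := N.obj n ⊗ T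
  let q : Z.left ⟶ Spec (CommRingCat.of B) := (snd (N.obj n) T).left
  haveI : IsAffineHom q := MorphismProperty.pullback_snd (P := @IsAffineHom) _ _ inferInstance
  have sq : IsPullback (N.obj n ◁ t).left ((snd (N.obj n) T₀).left ≫ q₀.hom) q
      (Spec.map (CommRingCat.ofHom (Ideal.Quotient.mk I))) := by
    refine IsPullback.of_iso (Groth.Agent.FinHom.isPullback_whiskerLeft (N.obj n) t) (Iso.refl _) (Iso.refl _) q₀
      (Iso.refl _) (by simp) (by simp) (by simp [q]; rfl) (by simp [ht])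
  obtain ⟨γ, hγ₁, hγ₂⟩ := exists_lift_baseChange X.hom hI q (N.obj n ◁ t).left _ sq (e _ y₀).left Z.hom
    ((Over.w _).trans (Over.w _).symm)
  let y₁ := (e Z).symm (Over.homMk γ hγ₂)
  have hy₁ : P.map (N.obj n ◁ t).op y₁ = y₀ := by
    rw [e_symm_natural e he, Equiv.symm_apply_eq]
    exact Over.OverMorphism.ext hγ₁
  let xT := P.map (fst (N.obj (n + 1)) T).op x
  let δ := dT N P T n y₁ - xT
  have hδ : dT N P T (n + 1) δ = 0 := by
    rw [map_sub, cocycle_T N P T x hx, sub_zero, dT_dT]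
  refine ⟨y₁ - P.map (htp s n).op δ, ?_, ?_⟩
  · have h : dT N P T n (P.map (htp s n).op δ) = δ := by
      have h' := homotopy_T (P := P) s n δ
      rwa [hδ, map_zero, zero_add] at h'
    rw [map_sub, h, sub_sub_cancel]
  · have hδ₀ : P.map (N.obj (n + 1) ◁ t).op δ = 0 := by
      rw [map_sub, dT_natural, hy₁, hy₀, ← Functor.map_comp_apply, ← op_comp, whiskerLeft_fst, sub_self]
    rw [map_sub, hy₁, ← Functor.map_comp_apply, ← op_comp, ← htp_natural t s n, op_comp, Functor.map_comp_apply,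
      hδ₀, map_zero, sub_zero]

end EtFppfLib.Smo
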