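import Groth.Agent.EtFppfLib.SmoothCech
import Groth.Agent.WeilResLib.Maps
import Groth.Agent.EtSectLib.Main
import Groth.Agent.AlgSpLib.SmoothFormal
import Groth.Agent.WeightLib.Pts
import Mathlib.AlgebraicGeometry.Artinian
import Mathlib.AlgebraicGeometry.Morphisms.Immersion
import Mathlib.AlgebraicGeometry.Morphisms.LocalFlatDescent

/-!
# Cech cocycles with values in a smooth scheme split etale locally
-/

set_option autoImplicit false
set_option linter.style.haveILetI false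
set_option linter.unusedSectionVars false
set_option backward.isDefEq.respectTransparency false
set_option backward.isDefEq.respectTransparency.types false
universe u

open CategoryTheory CategoryTheory.Limits MonoidalCategory CartesianMonoidalCategory AlgebraicGeometry Opposite
  Groth.Agent.EpsLib

namespace EtFppfLib.Smo

variable {S : Scheme.{u}}

/-- Pulling back along a monomorphism. -/
theorem isClosedImmersion_fst_comp {A B O Z : Scheme.{u}} (a : A ⟶ O) (b : B ⟶ O) (ι : O ⟶ Z) [Mono ι]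
    [IsClosedImmersion b] : IsClosedImmersion (pullback.fst (a ≫ ι) (b ≫ ι)) := by
  have sq : IsPullback (pullback.fst (a ≫ ι) (b ≫ ι)) (pullback.snd (a ≫ ι) (b ≫ ι)) a b :=
    IsPullback.mk' ((cancel_mono ι).1 (by simp only [Category.assoc]; exact pullback.condition))
      (fun T φ φ' h₁ h₂ => pullback.hom_ext h₁ h₂)
      fun T p q h => ⟨pullback.lift p q (by rw [reassoc_of% h]), pullback.lift_fst _ _ _, pullback.lift_snd _ _ _⟩
  exact MorphismProperty.of_isPullback (P := @IsClosedImmersion) sq.flip inferInstance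

/-- An immersion is closed over the schemes mapping into its coborder range. -/
theorem isClosedImmersion_pullback_coborder {A Y Z Q : Scheme.{u}} (k : A ⟶ Z) (L : Z ⟶ Q) (Δ : Y ⟶ Q)
    [IsImmersion (pullback.fst L Δ)]
    (h : Set.range k.base ⊆ ((pullback.fst L Δ).coborderRange : Set Z)) :
    IsClosedImmersion (pullback.fst (k ≫ L) Δ) := by
  let j := pullback.fst L Δ
  let k' := IsOpenImmersion.lift j.coborderRange.ι k (by rw [Scheme.Opens.range_ι]; exact h)
  have h1 : IsClosedImmersion (pullback.fst k j) := by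
    have hk : k' ≫ j.coborderRange.ι = k := IsOpenImmersion.lift_fac _ _ _
    have hj : j.liftCoborder ≫ j.coborderRange.ι = j := j.liftCoborder_ι
    haveI := isClosedImmersion_fst_comp k' j.liftCoborder j.coborderRange.ι
    have e : pullback.fst k j =
        (pullback.congrHom hk hj).inv ≫ pullback.fst (k' ≫ j.coborderRange.ι) (j.liftCoborder ≫ j.coborderRange.ι) := by
      rw [Iso.eq_inv_comp]
      simp
    rw [e]
    infer_instance
  haveI := h1
  rw [show pullback.fst (k ≫ L) Δ = (pullbackRightPullbackFstIso L Δ k).inv ≫ pullback.fst k j by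
    rw [pullbackRightPullbackFstIso_inv_fst]]
  infer_instance

theorem isPullback_thick (Y : Over S) {B : Type u} [CommRing B] (I : Ideal B)
    (b : Spec (CommRingCat.of B) ⟶ S) {T₀ : Over S} (t : T₀ ⟶ Over.mk b)
    (q₀ : T₀.left ≅ Spec (CommRingCat.of (B ⧸ I)))
    (ht : t.left = q₀.hom ≫ Spec.map (CommRingCat.ofHom (Ideal.Quotient.mk I))) :
    IsPullback (Y ◁ t).left ((snd Y T₀).left ≫ q₀.hom) (snd Y (Over.mk b)).left
      (Spec.map (CommRingCat.ofHom (Ideal.Quotient.mk I))) :=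
  IsPullback.of_iso (Groth.Agent.FinHom.isPullback_whiskerLeft Y t) (Iso.refl _) (Iso.refl _) q₀
    (Iso.refl _) (by simp) (by simp) (by simp) (by simp [ht])

variable {W' : Over S} {N : Nerve (toUnit W')} {P : (Over S)ᵒᵖ ⥤ AddCommGrpCat.{u + 1}} {X : Over S}
  (e : ∀ T : Over S, P.obj (op T) ≃ (T ⟶ X))

/-- Cocycles with values in a smooth scheme are coboundaries etale locally. -/
theorem exists_coboundary [IsAffine S] [Smooth X.hom]
    (he : ∀ {T T' : Over S} (m : T' ⟶ T) (y : P.obj (op T)), e T' (P.map m.op y) = m ≫ e T y)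
    (hW : IsFinite W'.hom ∧ Flat W'.hom ∧ LocallyOfFinitePresentation W'.hom ∧ Surjective W'.hom)
    (hN : ∀ m, IsFinite (N.obj m).hom ∧ Flat (N.obj m).hom ∧ LocallyOfFinitePresentation (N.obj m).hom)
    {n : ℕ} (x : P.obj (op (N.obj (n + 1)))) (hx : cechD N P (n + 1) x = 0) (z : S) :
    ∃ (T : Over S) (_ : Etale T.hom) (y : P.obj (op (N.obj n ⊗ T))),
      z ∈ Set.range T.hom.base ∧ dT N P T n y = P.map (fst (N.obj (n + 1)) T).op x := by
  classical
  obtain ⟨_, _, _, _⟩ := hW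
  obtain ⟨_, _, _⟩ := hN n
  obtain ⟨_, _, _⟩ := hN (n + 1)
  -- a geometric point and a solution over it
  let K := S.residueField z
  let Ω : Type u := AlgebraicClosure K
  let pΩ : Spec (CommRingCat.of Ω) ⟶ S :=
    Spec.map (CommRingCat.ofHom (algebraMap K Ω)) ≫ S.fromSpecResidueField z
  have hpΩ : ∀ a, pΩ a = z := fun a => Scheme.fromSpecResidueField_apply z _
  let P₀ : Over S := Over.mk pΩ
  obtain ⟨w, hw⟩ := W'.hom.surjective z
  obtain ⟨⟨c, hc⟩, -⟩ := WeightLib.exists_gpt W'.hom w pΩ (by rw [hw]; exact (hpΩ _).symm)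
  let y₀ := P.map (htp (N := N) (Over.homMk c hc : P₀ ⟶ W') n).op (P.map (fst (N.obj (n + 1)) P₀).op x)
  have hy₀ : dT N P P₀ n y₀ = P.map (fst (N.obj (n + 1)) P₀).op x := exists_coboundary_of_section _ x hx
  let g₀ : N.obj n ⊗ P₀ ⟶ X := e _ y₀
  -- an affine chart of `X` containing its values
  let Z₀ := (N.obj n ⊗ P₀).left
  let q : Z₀ ⟶ Spec (CommRingCat.of Ω) := (snd (N.obj n) P₀).left
  haveI : IsFinite q := MorphismProperty.pullback_snd (P := @IsFinite) _ _ ‹_›
  haveI : IsAffine Z₀ := isAffine_of_isAffineHom q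
  haveI : IsArtinianRing Γ(Z₀, ⊤) := by
    have hq : q.appTop.hom.Finite := ((HasAffineProperty.iff_of_isAffine (P := @IsFinite)).1 inferInstance).2
    haveI : IsArtinianRing Γ(Spec (CommRingCat.of Ω), ⊤) :=
      (Scheme.ΓSpecIso (CommRingCat.of Ω)).commRingCatIsoToRingEquiv.symm.surjective.isArtinianRing
    letI := q.appTop.hom.toAlgebra
    haveI : Module.Finite Γ(Spec (CommRingCat.of Ω), ⊤) Γ(Z₀, ⊤) := hq
    exact IsArtinianRing.of_finite Γ(Spec (CommRingCat.of Ω), ⊤) Γ(Z₀, ⊤)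
  haveI : IsLocallyArtinian (Spec Γ(Z₀, ⊤)) := Scheme.isLocallyArtinianScheme_Spec.2 inferInstance
  haveI : IsLocallyArtinian Z₀ := IsLocallyArtinian.of_isImmersion Z₀.isoSpec.hom
  haveI : Finite Z₀ := finite_of_compact_of_discrete
  choose O hO hgO _ using fun p : Z₀ =>
    exists_isAffineOpen_mem_and_subset (X := X.left) (x := g₀.left p) (U := ⊤) trivial
  haveI : ∀ p, IsAffine (O p : Scheme.{u}) := hO
  let U₀ : Scheme.{u} := ∐ fun p => (O p : Scheme.{u})
  let u₀ : U₀ ⟶ X.left := Sigma.desc fun p => (O p).ι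
  haveI : Smooth u₀ := IsZariskiLocalAtSource.sigmaDesc (P := @Smooth) fun p => inferInstance
  let U : Over S := Over.mk (u₀ ≫ X.hom)
  let u : U ⟶ X := Over.homMk u₀ rfl
  haveI : Smooth u.left := ‹Smooth u₀›
  haveI : Smooth U.hom := inferInstanceAs (Smooth (u₀ ≫ X.hom))
  haveI : IsAffineHom U.hom := by
    haveI : IsAffine U.left := inferInstanceAs (IsAffine (∐ fun p => (O p : Scheme.{u})))
    exact isAffineHom_of_isAffine _
  obtain ⟨M, ev, hMaff, -, hMfp, hM⟩ := Groth.Agent.FinHom.exists_homScheme (N.obj n) U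
  haveI := hMaff
  haveI : LocallyOfFinitePresentation M.hom := hMfp inferInstance
  let pt : Z₀ → Z₀.Opens := fun p => ⟨{p}, isOpen_discrete _⟩
  let 𝒰 : Z₀.OpenCover := Z₀.openCoverOfIsOpenCover pt
    (TopologicalSpace.Opens.ext (Set.eq_univ_of_forall fun p => by simp [pt]))
  let lp : ∀ p, (pt p : Scheme.{u}) ⟶ U₀ := fun p =>
    IsOpenImmersion.lift (O p).ι ((pt p).ι ≫ g₀.left) (by
      rintro _ ⟨⟨a, (ha : a = p)⟩, rfl⟩
      rw [Scheme.Opens.range_ι]
      show g₀.left a ∈ O p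
      rw [ha]
      exact hgO p) ≫ Sigma.ι (fun p => (O p : Scheme.{u})) p
  have hlp : ∀ p, lp p ≫ u₀ = (pt p).ι ≫ g₀.left := fun p => by
    simp only [lp, u₀, Category.assoc, Sigma.ι_desc, IsOpenImmersion.lift_fac]
  let g' : Z₀ ⟶ U₀ := Scheme.Cover.glueMorphisms 𝒰 lp fun a b => by
    by_cases h : a = b
    · subst h
      rw [(cancel_mono (𝒰.f a)).1 pullback.condition]
    · haveI : IsEmpty ↥(pullback (𝒰.f a) (𝒰.f b)) := ⟨fun v => h (by
        have h1 := congrArg (fun m : pullback (𝒰.f a) (𝒰.f b) ⟶ Z₀ => m v) pullback.condition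
        have ha : (pt a).ι (pullback.fst (𝒰.f a) (𝒰.f b) v) = a :=
          ((pullback.fst (𝒰.f a) (𝒰.f b) v : (pt a : Scheme.{u})).2 :)
        have hb : (pt b).ι (pullback.snd (𝒰.f a) (𝒰.f b) v) = b :=
          ((pullback.snd (𝒰.f a) (𝒰.f b) v : (pt b : Scheme.{u})).2 :)
        exact ha.symm.trans (h1.trans hb))⟩
      exact isInitialOfIsEmpty.hom_ext _ _
  have hg' : g' ≫ u₀ = g₀.left := Scheme.Cover.hom_ext 𝒰 _ _ fun p => by
    rw [← Category.assoc, Scheme.Cover.ι_glueMorphisms]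
    exact hlp p
  let φ₀ : N.obj n ⊗ P₀ ⟶ U := Over.homMk g' (by
    show g' ≫ u₀ ≫ X.hom = _
    rw [← Category.assoc, hg']
    exact Over.w g₀)
  have hφ₀ : φ₀ ≫ u = g₀ := Over.OverMorphism.ext hg'
  obtain ⟨v₀, hv₀, -⟩ := hM P₀ φ₀
  -- the equation
  let sol : ∀ {T : Over S}, (T ⟶ M) → P.obj (op (N.obj n ⊗ T)) := fun {T} t =>
    (e _).symm ((N.obj n ◁ t) ≫ ev ≫ u)
  let lhs : N.obj (n + 1) ⊗ M ⟶ X := e _ (dT N P M n ((e _).symm (ev ≫ u)))
  let rhs : N.obj (n + 1) ⊗ M ⟶ X := fst _ _ ≫ e _ x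
  have hiff : ∀ {T : Over S} (t : T ⟶ M), (N.obj (n + 1) ◁ t) ≫ lhs = (N.obj (n + 1) ◁ t) ≫ rhs ↔
      dT N P T n (sol t) = P.map (fst (N.obj (n + 1)) T).op x := fun {T} t => by
    rw [show (N.obj (n + 1) ◁ t) ≫ lhs = e _ (dT N P T n (sol t)) by
        rw [← he, dT_natural, e_symm_natural e he],
      show (N.obj (n + 1) ◁ t) ≫ rhs = e _ (P.map (fst (N.obj (n + 1)) T).op x) by
        rw [he]; simp [rhs], (e _).apply_eq_iff_eq]
  have hv₀eq : (N.obj (n + 1) ◁ v₀) ≫ lhs = (N.obj (n + 1) ◁ v₀) ≫ rhs := (hiff v₀).2 (by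
    have : sol v₀ = y₀ := (e _).symm_apply_eq.2 (by rw [reassoc_of% hv₀, hφ₀])
    rw [this, hy₀])
  -- shrink so that the equaliser is closed
  let Δ : X ⟶ X ⊗ X := lift (𝟙 X) (𝟙 X)
  haveI : IsImmersion Δ.left := inferInstanceAs (IsImmersion (pullback.diagonal X.hom))
  haveI : IsImmersion (pullback.fst (lift lhs rhs).left Δ.left) :=
    MorphismProperty.pullback_fst (P := @IsImmersion) _ _ inferInstance
  let Oo := (pullback.fst (lift lhs rhs).left Δ.left).coborderRange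
  let qM : (N.obj (n + 1) ⊗ M).left ⟶ M.left := (snd (N.obj (n + 1)) M).left
  haveI : IsFinite qM := MorphismProperty.pullback_snd (P := @IsFinite) _ _ ‹_›
  let good : M.left.Opens := ⟨(qM.base '' (Oo : Set _)ᶜ)ᶜ, (qM.isClosedMap _ Oo.2.isClosed_compl).isOpen_compl⟩
  let o : Spec (CommRingCat.of Ω) := IsLocalRing.closedPoint Ω
  have hm₀ : v₀.left o ∈ good := by
    rintro ⟨a, ha, hqa⟩
    obtain ⟨a', ha', -⟩ := Scheme.exists_preimage_of_isPullback
      (Groth.Agent.FinHom.isPullback_whiskerLeft (N.obj (n + 1)) v₀) a o hqa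
    have h1 : (N.obj (n + 1) ◁ v₀) ≫ lift lhs rhs = ((N.obj (n + 1) ◁ v₀) ≫ lhs) ≫ Δ :=
      CartesianMonoidalCategory.hom_ext _ _ (by simp [Δ]) (by simp [Δ, hv₀eq])
    refine ha (subset_coborder ⟨pullback.lift _ _ (congrArg CommaMorphism.left h1) a', ?_⟩)
    rw [← Scheme.Hom.comp_apply, pullback.lift_fst]
    exact ha'
  obtain ⟨M₁, hM₁, hm₁, hM₁le⟩ := exists_isAffineOpen_mem_and_subset hm₀
  haveI : IsAffine (M₁ : Scheme.{u}) := hM₁
  let M₁' : Over S := Over.mk (M₁.ι ≫ M.hom)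
  let i : M₁' ⟶ M := Over.homMk M₁.ι rfl
  let k : M₁' ⊗ N.obj (n + 1) ⟶ N.obj (n + 1) ⊗ M := (β_ _ _).hom ≫ (N.obj (n + 1) ◁ i)
  have hk : Set.range k.left.base ⊆ (Oo : Set _) := by
    rintro _ ⟨a, rfl⟩
    by_contra hne
    have h1 : k ≫ snd (N.obj (n + 1)) M = fst M₁' (N.obj (n + 1)) ≫ i := by simp [k]
    refine hM₁le (show qM (k.left a) ∈ M₁ from ?_) ⟨_, hne, rfl⟩
    rw [show qM (k.left a) = i.left ((fst M₁' (N.obj (n + 1))).left a) from
      congrArg (fun m : M₁' ⊗ N.obj (n + 1) ⟶ M => m.left a) h1]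
    exact ((fst M₁' (N.obj (n + 1))).left a : (M₁ : Scheme.{u})).2
  have hcl : IsClosedImmersion (pullback.fst (lift (k ≫ lhs) (k ≫ rhs)).left Δ.left) := by
    rw [show lift (k ≫ lhs) (k ≫ rhs) = k ≫ lift lhs rhs from (comp_lift _ _ _).symm, Over.comp_left]
    exact isClosedImmersion_pullback_coborder _ _ _ hk
  obtain ⟨V, tV, hclV, hV, hVfp⟩ := Groth.Agent.WeilRes.exists_eqLocus_essFree' (k ≫ lhs) (k ≫ rhs)
    (Groth.Agent.WeilRes.isEssentiallyFree_of_finite_flat (N.obj (n + 1)).hom) hcl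
  haveI : LocallyOfFinitePresentation tV.left := hVfp ⟨inferInstance, inferInstance⟩
  haveI : IsAffine M₁'.left := hM₁
  haveI : IsAffine V.left := isAffine_of_isAffineHom tV.left
  haveI : LocallyOfFinitePresentation V.hom := by
    rw [← Over.w tV]; exact inferInstanceAs (LocallyOfFinitePresentation (_ ≫ M₁.ι ≫ M.hom))
  have hfac : ∀ {T : Over S} (v : T ⟶ M₁'), (∃ a : T ⟶ V, a ≫ tV = v) ↔
      (N.obj (n + 1) ◁ (v ≫ i)) ≫ lhs = (N.obj (n + 1) ◁ (v ≫ i)) ≫ rhs := fun {T} v => by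
    rw [hV T v]
    have hl : ∀ (T'' : Over S) (s : T'' ⟶ T) (a : T'' ⟶ N.obj (n + 1)),
        lift (s ≫ v) a ≫ k = lift a s ≫ (N.obj (n + 1) ◁ (v ≫ i)) :=
      fun _ _ _ => CartesianMonoidalCategory.hom_ext _ _ (by simp [k]) (by simp [k])
    refine ⟨fun h => ?_, fun h T'' s a => ?_⟩
    · have h1 := h _ (snd (N.obj (n + 1)) T) (fst _ _)
      rw [reassoc_of% hl, reassoc_of% hl, lift_fst_snd, Category.id_comp, Category.id_comp] at h1
      exact h1
    · rw [reassoc_of% hl, reassoc_of% hl, h]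
  let vV : V ⟶ M := tV ≫ i
  have hVeq : (N.obj (n + 1) ◁ vV) ≫ lhs = (N.obj (n + 1) ◁ vV) ≫ rhs := (hfac tV).1 ⟨𝟙 _, Category.id_comp _⟩
  -- the solution scheme is smooth
  haveI : Smooth V.hom := by
    haveI : LocallyOfFinitePresentation (pullback.snd V.hom W'.hom) := inferInstance
    refine MorphismProperty.of_pullback_snd_of_descendsAlong (P := @Smooth)
      (Q := @Surjective ⊓ @Flat ⊓ @QuasiCompact) (f := V.hom) (g := W'.hom) ⟨⟨inferInstance, inferInstance⟩, inferInstance⟩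
      (AlgSpLib.smooth_of_lfp_formallySmoothHom _ fun B _ I hI a b hab => ?_)
    let j := Spec.map (CommRingCat.ofHom (Ideal.Quotient.mk I))
    let T : Over S := Over.mk (b ≫ W'.hom)
    let T₀ : Over S := Over.mk (j ≫ b ≫ W'.hom)
    let t : T₀ ⟶ T := Over.homMk j rfl
    have ht : t.left = (Iso.refl T₀.left).hom ≫ j := (Category.id_comp _).symm
    let a₀ : T₀ ⟶ V := Over.homMk (a ≫ pullback.fst _ _) (by
      show _ = j ≫ b ≫ W'.hom
      rw [Category.assoc, pullback.condition, ← reassoc_of% hab])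
    obtain ⟨y, hy, hty⟩ := exists_lift_solution e he hI (b ≫ W'.hom) (Over.homMk b rfl) x hx t (Iso.refl _) ht
      (sol (a₀ ≫ vV)) ((hiff _).1 (by
        rw [whiskerLeft_comp, Category.assoc, Category.assoc, hVeq]))
    haveI : IsAffineHom (snd (N.obj n) T).left :=
      MorphismProperty.pullback_snd (P := @IsAffineHom) _ _ inferInstance
    obtain ⟨γ, hγ₁, hγ₂⟩ := exists_lift_baseChange u.left hI (snd (N.obj n) T).left (N.obj n ◁ t).left _
      (isPullback_thick (N.obj n) I _ t (Iso.refl _) ht) ((N.obj n ◁ (a₀ ≫ vV)) ≫ ev).left (e _ y).left (by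
        rw [← Over.comp_left, ← Over.comp_left, ← he, hty, Equiv.apply_symm_apply, Category.assoc])
    let φ : N.obj n ⊗ T ⟶ U := Over.homMk γ (by rw [← Over.w u, ← Category.assoc, hγ₂]; exact Over.w _)
    obtain ⟨v, hv, -⟩ := hM T φ
    have htv : t ≫ v = a₀ ≫ vV := (hM T₀ _).unique (by rw [whiskerLeft_comp, Category.assoc, hv]) (by
      exact Over.OverMorphism.ext hγ₁.symm)
    have hr : Set.range v.left.base ⊆ Set.range M₁.ι.base := by
      rintro _ ⟨p, rfl⟩
      obtain ⟨p', hp'⟩ := surjective_of_sq_zero hI p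
      exact ⟨(a₀ ≫ tV).left p', (congrArg (fun m : T₀ ⟶ M => m.left p') htv).symm.trans (congrArg v.left.base hp')⟩
    let v₁ : T ⟶ M₁' := Over.homMk (IsOpenImmersion.lift M₁.ι v.left hr) (by
      show _ ≫ M₁.ι ≫ M.hom = _
      rw [IsOpenImmersion.lift_fac_assoc, Over.w])
    have hv₁ : v₁ ≫ i = v := Over.OverMorphism.ext (IsOpenImmersion.lift_fac _ _ _)
    obtain ⟨l, hl⟩ := (hfac v₁).2 (by
      rw [hv₁]
      refine (hiff v).2 ?_
      have : sol v = y := (e _).symm_apply_eq.2 (by rw [reassoc_of% hv]; exact Over.OverMorphism.ext hγ₂)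
      rw [this, hy])
    refine ⟨pullback.lift l.left b (Over.w l), pullback.hom_ext ?_ ?_, pullback.lift_snd _ _ _⟩
    · rw [Category.assoc, pullback.lift_fst, ← cancel_mono tV.left, ← cancel_mono M₁.ι, Category.assoc, Category.assoc]
      have := congrArg CommaMorphism.left htv
      rw [← hv₁, ← hl] at this
      simpa [vV, i, t, a₀, j] using this
    · rw [Category.assoc, pullback.lift_snd]
      exact hab
  -- a section
  obtain ⟨a₀, ha₀⟩ : ∃ a : P₀ ⟶ V, a ≫ vV = v₀ := by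
    let v₁ : P₀ ⟶ M₁' := Over.homMk (IsOpenImmersion.lift M₁.ι v₀.left (by
      rintro _ ⟨p, rfl⟩
      rw [show p = o from Subsingleton.elim (α := Spec (CommRingCat.of Ω)) _ _]
      exact ⟨⟨_, hm₁⟩, rfl⟩)) (by
      show _ ≫ M₁.ι ≫ M.hom = _
      rw [IsOpenImmersion.lift_fac_assoc, Over.w])
    have hv₁ : v₁ ≫ i = v₀ := Over.OverMorphism.ext (IsOpenImmersion.lift_fac _ _ _)
    obtain ⟨a, ha⟩ := (hfac v₁).2 (by rw [hv₁]; exact hv₀eq)
    exact ⟨a, by rw [← hv₁, ← ha, Category.assoc]⟩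
  obtain ⟨E, g, p, hg, hp, h, hh⟩ := EtSectLib.exists_section V.hom z ⟨a₀.left o, by
    rw [← Scheme.Hom.comp_apply, Over.w]; exact hpΩ o⟩
  let hV' : Over.mk g ⟶ V := Over.homMk h hh
  exact ⟨Over.mk g, hg, sol (hV' ≫ vV), ⟨p, hp⟩, (hiff _).1 (by
    rw [whiskerLeft_comp, Category.assoc, Category.assoc, hVeq])⟩

end EtFppfLib.Smo
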