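import Groth.Agent.AlgSpLib.SmallExtScheme
import Mathlib.AlgebraicGeometry.Morphisms.Affine
import Mathlib.AlgebraicGeometry.Morphisms.ClosedImmersion

/-!
# Lifting along smooth morphisms on base changes of square-zero thickenings
-/

set_option autoImplicit false
set_option linter.style.haveILetI false
set_option backward.isDefEq.respectTransparency false
universe u

open CategoryTheory CategoryTheory.Limits AlgebraicGeometry

namespace EtFppfLib.Smo

/-- Smooth morphisms lift along base changes of square-zero thickenings by affine morphisms. -/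
theorem exists_lift_baseChange {X Y Z Z₀ : Scheme.{u}} (f : X ⟶ Y) [Smooth f] {B : Type u} [CommRing B]
    {I : Ideal B} (hI : I ^ 2 = ⊥) (q : Z ⟶ Spec (CommRingCat.of B)) [IsAffineHom q] (i : Z₀ ⟶ Z)
    (q₀ : Z₀ ⟶ Spec (CommRingCat.of (B ⧸ I)))
    (sq : IsPullback i q₀ q (Spec.map (CommRingCat.ofHom (Ideal.Quotient.mk I))))
    (α : Z₀ ⟶ X) (β : Z ⟶ Y) (w : i ≫ β = α ≫ f) :
    ∃ γ : Z ⟶ X, i ≫ γ = α ∧ γ ≫ f = β := by
  let j := Spec.map (CommRingCat.ofHom (Ideal.Quotient.mk I))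
  haveI : IsClosedImmersion j := IsClosedImmersion.spec_of_surjective _ Ideal.Quotient.mk_surjective
  haveI : IsClosedImmersion i := MorphismProperty.of_isPullback (P := @IsClosedImmersion) sq.flip inferInstance
  haveI : IsAffine Z := isAffine_of_isAffineHom q
  haveI : IsAffine Z₀ := isAffine_of_isAffineHom i
  obtain ⟨φ, hφ⟩ := Spec.map_surjective (Z.isoSpec.inv ≫ q)
  obtain ⟨ψ, hψ⟩ := Spec.map_surjective (Z₀.isoSpec.inv ≫ i ≫ Z.isoSpec.hom)
  obtain ⟨φ₀, hφ₀⟩ := Spec.map_surjective (Z₀.isoSpec.inv ≫ q₀)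
  let J : Ideal Γ(Z, ⊤) := I.map φ.hom
  have hJ : RingHom.ker (Ideal.Quotient.mk J) ^ 2 = ⊥ := by
    rw [Ideal.mk_ker]
    show I.map φ.hom ^ 2 = ⊥
    rw [← Ideal.map_pow, hI, Ideal.map_bot]
  have hcomm : φ ≫ ψ = CommRingCat.ofHom (Ideal.Quotient.mk I) ≫ φ₀ := Spec.map_injective (by
    rw [Spec.map_comp, Spec.map_comp, hφ, hψ, hφ₀]
    simp only [Category.assoc, Iso.hom_inv_id_assoc]
    rw [sq.w])
  have hker : J ≤ RingHom.ker ψ.hom := Ideal.map_le_iff_le_comap.2 fun a ha => by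
    show ψ.hom (φ.hom a) = 0
    have h := ConcreteCategory.congr_hom hcomm a
    refine h.trans ?_
    show φ₀.hom (Ideal.Quotient.mk I a) = 0
    rw [Ideal.Quotient.eq_zero_iff_mem.2 ha, map_zero]
  let φJ : (B ⧸ I) →+* Γ(Z, ⊤) ⧸ J := Ideal.quotientMap J φ.hom Ideal.le_comap_map
  let s := Spec.map (CommRingCat.ofHom (Ideal.Quotient.mk J))
  let m : Spec (CommRingCat.of (Γ(Z, ⊤) ⧸ J)) ⟶ Z₀ :=
    sq.lift (s ≫ Z.isoSpec.inv) (Spec.map (CommRingCat.ofHom φJ)) (by
      rw [Category.assoc, ← hφ, ← Spec.map_comp, ← Spec.map_comp]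
      exact congrArg Spec.map (CommRingCat.hom_ext (Ideal.quotientMap_comp_mk (H := Ideal.le_comap_map)).symm))
  have hm : m ≫ i = s ≫ Z.isoSpec.inv := sq.lift_fst _ _ _
  let r : Z₀ ⟶ Spec (CommRingCat.of (Γ(Z, ⊤) ⧸ J)) :=
    Z₀.isoSpec.hom ≫ Spec.map (CommRingCat.ofHom (Ideal.Quotient.lift J ψ.hom fun a ha => hker ha))
  have hr : r ≫ s = i ≫ Z.isoSpec.hom := by
    simp only [r, s, Category.assoc, ← Spec.map_comp, ← CommRingCat.ofHom_comp, Ideal.Quotient.lift_comp_mk,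
      CommRingCat.ofHom_hom, hψ, Iso.hom_inv_id_assoc]
  have hrm : r ≫ m = 𝟙 _ := by
    rw [← cancel_mono i, Category.assoc, hm, ← Category.assoc, hr, Category.assoc, Iso.hom_inv_id, Category.comp_id,
      Category.id_comp]
  obtain ⟨γ', h1, h2⟩ := AlgSpLib.exists_lift_sq_zero_of_smooth f (Ideal.Quotient.mk J) Ideal.Quotient.mk_surjective hJ
    (m ≫ α) (Z.isoSpec.inv ≫ β) (by
      show s ≫ Z.isoSpec.inv ≫ β = _
      rw [← Category.assoc, ← hm, Category.assoc, w, Category.assoc])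
  refine ⟨Z.isoSpec.hom ≫ γ', ?_, by rw [Category.assoc, h2, Iso.hom_inv_id_assoc]⟩
  have h1' : s ≫ γ' = m ≫ α := h1
  rw [← Category.assoc, ← hr, Category.assoc, h1', ← Category.assoc, hrm, Category.id_comp]

/-- A square-zero thickening of an affine scheme has the same points. -/
theorem surjective_of_sq_zero {B : Type u} [CommRing B] {I : Ideal B} (hI : I ^ 2 = ⊥)
    (x : Spec (CommRingCat.of B)) :
    x ∈ Set.range (Spec.map (CommRingCat.ofHom (Ideal.Quotient.mk I))) := by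
  show x ∈ Set.range (PrimeSpectrum.comap (Ideal.Quotient.mk I))
  rw [range_comap_of_surjective _ _ Ideal.Quotient.mk_surjective, Ideal.mk_ker]
  intro a ha
  refine x.2.mem_of_pow_mem 2 ?_
  have : a ^ 2 ∈ I ^ 2 := Ideal.pow_mem_pow ha 2
  rw [hI, Ideal.mem_bot] at this
  rw [this]
  exact zero_mem _

end EtFppfLib.Smo
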