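import Groth.Agent.EtFppfLib.SmoothAcy
import Groth.Agent.EtFppfLib.Leray
import Groth.Agent.S0073
import Groth.Prelude.Def_GmPts2
import Mathlib.Algebra.Polynomial.Laurent
import Mathlib.RingTheory.RingHom.Smooth

/-!
# fppf and étale cohomology of smooth commutative group schemes
-/

set_option autoImplicit false
set_option linter.style.haveILetI false
set_option linter.unusedSectionVars false
set_option backward.isDefEq.respectTransparency false
set_option backward.isDefEq.respectTransparency.types false
universe u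

open CategoryTheory CategoryTheory.Limits AlgebraicGeometry Opposite LaurentPolynomial

namespace EtFppfLib

variable {X : Scheme.{u}} [EtFppf.ACont X]

/-- Higher direct images of acyclic sheaves vanish. -/
theorem isZero_RaPush_of_acy (G : EtFppf.AbF X) (hG : Acy G) (q : ℕ) (hq : 0 < q) :
    IsZero ((EtFppf.RaPush X q).obj G) := by
  haveI := preservesFiniteLimits_aPush X
  obtain ⟨n, rfl⟩ : ∃ n, q = n + 1 := ⟨q - 1, by omega⟩
  exact isZero_rightDerived_of_acy (EtFppf.aPush X) (epi_aPush_map X) n _ hG

/-- fppf cohomology of an acyclic sheaf is the étale cohomology of its restriction. -/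
theorem nonempty_H_aPush_equiv_HF (G : EtFppf.AbF X) (hG : Acy G) (q : ℕ) :
    Nonempty (EtCoh.H X ((EtFppf.aPush X).obj G) q ≃+ EtFppf.HF X G q) := by
  haveI := preservesFiniteLimits_aPush X
  haveI := preservesInjective_aPush X
  let R := EtFppf.aPush X
  let eB := fun (M : EtFppf.AbF X) => BigEtLib.homEquivTop (EtFppf.J X) (Over.mkIdTerminal (X := X)) M
  let eS := fun (M : EtCoh.Ab X) => BigEtLib.homEquivTop X.smallEtaleTopology (EtCore.topIsTerminal X) M
  obtain ⟨e⟩ := nonempty_ext_equiv_of_acyclic R (fun M => (eB M).trans (eS (R.obj M)).symm) (fun {M M'} g x => by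
    apply (eS (R.obj M')).injective
    refine ((eS _).apply_symm_apply _).trans ?_
    refine (BigEtLib.homEquivTop_comp _ _ g x).trans ?_
    refine Eq.trans ?_ (BigEtLib.homEquivTop_comp X.smallEtaleTopology (EtCore.topIsTerminal X) (R.map g)
      (((eB M).trans (eS (R.obj M)).symm) x)).symm
    exact (congrArg ((R.map g).hom.app (op (EtCoh.top X))) ((eS _).apply_symm_apply (eB M x))).symm) G
    (fun n => isZero_RaPush_of_acy G hG (n + 1) n.succ_pos) q
  exact ⟨e.symm⟩

/-- Vanishing over a strictly henselian base. -/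
theorem subsingleton_HF_of_acy (R : Type u) [CommRing R] (hR : EtCoh.IsStrictlyHenselianLocalRing R)
    [EtFppf.ACont (Spec (CommRingCat.of R))] (G : EtFppf.AbF (Spec (CommRingCat.of R))) (hG : Acy G) (i : ℕ)
    (hi : 1 ≤ i) : Subsingleton (EtFppf.HF (Spec (CommRingCat.of R)) G i) := by
  obtain ⟨h1, h2⟩ := hR
  haveI := h1
  haveI := h2
  obtain ⟨e⟩ := nonempty_H_aPush_equiv_HF G hG i
  haveI := Groth.Agent.S0073.result R ((EtFppf.aPush (Spec (CommRingCat.of R))).obj G) i hi
  exact e.symm.toEquiv.subsingleton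

theorem smooth_laurent (R : Type u) [CommRing R] : Algebra.Smooth R (MonoidAlgebra R (Multiplicative ℤ)) := by
  haveI : Algebra.Smooth R (Polynomial R) := ⟨inferInstance, inferInstance⟩
  haveI : Algebra.Smooth (Polynomial R) R[T;T⁻¹] :=
    Algebra.Smooth.of_isLocalization_Away (Polynomial.X : Polynomial R)
  haveI : IsScalarTower R (Polynomial R) R[T;T⁻¹] :=
    IsScalarTower.of_algebraMap_eq fun r => (Polynomial.toLaurent_C r).symm
  haveI : Algebra.Smooth R R[T;T⁻¹] := Algebra.Smooth.comp R (Polynomial R) R[T;T⁻¹]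
  exact Algebra.Smooth.of_equiv (AddMonoidAlgebra.toMultiplicativeAlgEquiv R R ℤ)

theorem smooth_Gm (S : Scheme.{u}) : Smooth (Red.Gm S).hom := by
  haveI : Smooth (Red.diag (ULift.{u} ℤ) ℤ).hom := by
    show Smooth (Spec.map _)
    exact (HasRingHomProperty.Spec_iff (P := @Smooth)).2 (RingHom.smooth_algebraMap.2 (smooth_laurent _))
  exact MorphismProperty.pullback_snd (P := @Smooth) _ _ ‹_›

/-- The multiplicative group is acyclic. -/
theorem acy_GmF (S : Scheme.{u}) : Acy (EtDl.GmF S) := by
  haveI := smooth_Gm S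
  exact (Smo.acy_pts (Red.Gm S)).of_iso (GmPts.gmFIso S)

end EtFppfLib
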