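import Groth.Agent.EtFppfLib.Germ
import Groth.Agent.EtDescentLib.Fppf
import Groth.Agent.RDerLib.LeftExact
import Mathlib.CategoryTheory.Abelian.RightDerived

/-!
# Comparison of the big fppf site with the small étale site
-/

set_option autoImplicit false
set_option linter.style.haveILetI false
set_option linter.unusedSectionVars false
set_option backward.isDefEq.respectTransparency false
set_option backward.isDefEq.respectTransparency.types false
universe u

open CategoryTheory CategoryTheory.Limits AlgebraicGeometry Opposite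

namespace EtFppfLib

variable {S : Scheme.{u}}

/-- Left exact functors preserving epimorphisms with acyclic kernel kill acyclic sheaves. -/
theorem isZero_rightDerived_of_acy {A : Type (u + 2)} [Category.{u + 1} A] [Abelian A]
    (Φ : EtFppf.AbF S ⥤ A) [Φ.Additive] [PreservesFiniteLimits Φ]
    (hepi : ∀ T : ShortComplex (EtFppf.AbF S), T.ShortExact → Acy T.X₁ → Epi (Φ.map T.g)) :
    ∀ (q : ℕ) (G : EtFppf.AbF S), Acy G → IsZero ((Φ.rightDerived (q + 1)).obj G) := by
  intro q
  induction q with
  | zero =>
    intro G hG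
    let T : ShortComplex (EtFppf.AbF S) :=
      ShortComplex.mk (Injective.ι G) (cokernel.π (Injective.ι G)) (cokernel.condition _)
    have hT : T.ShortExact :=
      { exact := ShortComplex.exact_of_g_is_cokernel _ (cokernelIsCokernel _)
        mono_f := inferInstanceAs (Mono (Injective.ι G))
        epi_g := inferInstanceAs (Epi (cokernel.π (Injective.ι G))) }
    exact Groth.Agent.RDerLib.isZero_X₁_succ (F := Φ) hT 0 (Φ.isZero_rightDerived_obj_injective_succ 0 (Injective.under G))
      ((Groth.Agent.RDerLib.epi_map_g_iff _).2 (hepi T hT hG))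
  | succ q ih =>
    intro G hG
    let T : ShortComplex (EtFppf.AbF S) :=
      ShortComplex.mk (Injective.ι G) (cokernel.π (Injective.ι G)) (cokernel.condition _)
    have hT : T.ShortExact :=
      { exact := ShortComplex.exact_of_g_is_cokernel _ (cokernelIsCokernel _)
        mono_f := inferInstanceAs (Mono (Injective.ι G))
        epi_g := inferInstanceAs (Epi (cokernel.π (Injective.ι G))) }
    haveI : Injective T.X₂ := inferInstanceAs (Injective (Injective.under G))
    exact Groth.Agent.RDerLib.isZero_X₁_succ (F := Φ) hT (q + 1)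
      (Φ.isZero_rightDerived_obj_injective_succ (q + 1) (Injective.under G))
      ⟨fun a b _ => (ih _ (Acy.quotient hT hG)).eq_of_src a b⟩

variable (S) [EtFppf.ACont S]

theorem preservesFiniteLimits_aPush : PreservesFiniteLimits (EtFppf.aPush S) := by
  haveI : PreservesLimitsOfSize.{0, 0} (EtFppf.aPush S) := (EtFppf.aAdj S).rightAdjoint_preservesLimits
  exact PreservesLimitsOfSize.preservesFiniteLimits _

theorem acy_aPull (F : EtCoh.Ab S) : Acy ((EtFppf.aPull S).obj F) :=
  (acy_of_hasGerms ((EtDescentLib.piFppf S).obj F) (EtDescentLib.hasGerms_piEtPull S F)).of_iso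
    ((EtDescentLib.aPullIso S).app F).symm

theorem epi_aPush_map (T : ShortComplex (EtFppf.AbF S)) (hT : T.ShortExact) (hA : Acy T.X₁) :
    Epi ((EtFppf.aPush S).map T.g) := by
  refine (Sheaf.isLocallySurjective_iff_epi' (J := S.smallEtaleTopology) (A := AddCommGrpCat.{u + 1}) _).1
    ⟨fun {U} s => ?_⟩
  choose E e he t hz ht using fun z => exists_lift_etale hT hA ((EtFppf.a S).obj U) s z
  haveI := he
  haveI : Etale U.hom := U.prop
  haveI hE : ∀ z, Etale (E z).hom := fun z => by
    rw [← Over.w (e z)]
    exact MorphismProperty.comp_mem (W := @Etale) _ _ (he z) U.prop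
  let Z : U.left → S.Etale := fun z => Scheme.Etale.mk (E z).hom
  let g : ∀ z, Z z ⟶ U := fun z => MorphismProperty.Over.homMk (e z).left (Over.w (e z)) trivial
  refine GrothendieckTopology.superset_covering _ ?_
    ((Scheme.ofArrows_mem_smallEtaleTopology_iff g).2 (Set.eq_univ_of_forall fun z => Set.mem_iUnion.2 ⟨z, hz z⟩))
  rw [Sieve.generate_le_iff]
  rintro _ _ ⟨z⟩
  exact ⟨t z, ht z⟩

theorem isZero_RaPush (F : EtCoh.Ab S) (q : ℕ) (hq : 0 < q) :
    IsZero ((EtFppf.RaPush S q).obj ((EtFppf.aPull S).obj F)) := by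
  haveI := preservesFiniteLimits_aPush S
  obtain ⟨n, rfl⟩ : ∃ n, q = n + 1 := ⟨q - 1, by omega⟩
  exact isZero_rightDerived_of_acy (EtFppf.aPush S) (epi_aPush_map S) n _ (acy_aPull S F)

theorem isIso_aAdj_unit (F : EtCoh.Ab S) : IsIso ((EtFppf.aAdj S).unit.app F) := by
  let A := (BigSite.piEtAdj Scheme.etalePrecoverage S).restrictFullyFaithful (iC := 𝟭 (EtCoh.Ab S))
    (iD := EtDescentLib.fppfIncl S) (L := EtDescentLib.piFppf S) (R := EtFppf.aPush S)
    (Functor.FullyFaithful.id _) (ObjectProperty.fullyFaithfulιOfLE _) (Iso.refl _) (Iso.refl _)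
  haveI : IsIso (BigSite.piEtAdj Scheme.etalePrecoverage S).unit := BigEtLib.isIso_piEtAdj_unit S
  have e : A.unit.app F = (BigSite.piEtAdj Scheme.etalePrecoverage S).unit.app F ≫
      (BigSite.resEt Scheme.etalePrecoverage S).map (𝟙 _) ≫ 𝟙 _ :=
    Adjunction.map_restrictFullyFaithful_unit_app (iC := 𝟭 (EtCoh.Ab S)) _ _ _ _ _ F
  haveI : IsIso (A.unit.app F) := by
    rw [e]
    infer_instance
  have key := Adjunction.unit_leftAdjointUniq_hom_app (EtFppf.aAdj S) A F
  haveI : IsIso ((EtFppf.aAdj S).unit.app F ≫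
      (EtFppf.aPush S).map ((Adjunction.leftAdjointUniq (EtFppf.aAdj S) A).hom.app F)) := by rw [key]; infer_instance
  exact IsIso.of_isIso_comp_right _ ((EtFppf.aPush S).map ((Adjunction.leftAdjointUniq (EtFppf.aAdj S) A).hom.app F))

end EtFppfLib
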